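import Mathlib
import Cfsg.Agent.Char.TIFN
import Cfsg.Agent.Char.Exceptional
import Cfsg.Agent.Char.ClassPair

/-! Exceptional characters for strongly self-centralizing subgroups. -/

set_option autoImplicit false
set_option linter.unusedSectionVars false

namespace Cfsg.Agent.SCS

open Cfsg Cfsg.Agent.Char Subgroup
open scoped ComplexConjugate Classical

variable {G : Type*} [Group G]

/-- `g` is conjugate to a non-identity element of `A`. -/
def Near (A : Subgroup G) (g : G) : Prop := ∃ a ∈ A, a ≠ 1 ∧ IsConj a g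

/-- strongly self-centralizing subgroups -/
def CC (A : Subgroup G) : Prop := ∀ a ∈ A, a ≠ 1 → centralizer ({a} : Set G) = A

theorem Near.of_isConj {A : Subgroup G} {g h : G} (hg : Near A g) (e : IsConj g h) : Near A h := by
  obtain ⟨a, ha, h1, c⟩ := hg
  exact ⟨a, ha, h1, c.trans e⟩

theorem near_of_mem {A : Subgroup G} {a : G} (ha : a ∈ A) (h1 : a ≠ 1) : Near A a :=
  ⟨a, ha, h1, IsConj.refl a⟩

theorem not_near_one (A : Subgroup G) : ¬ Near A 1 := by
  rintro ⟨a, -, h1, c⟩
  exact h1 (isConj_one_left.1 c)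

variable {A : Subgroup G}

theorem CC.mem_of_comm (h : CC A) {a g : G} (ha : a ∈ A) (h1 : a ≠ 1) (e : g * a = a * g) :
    g ∈ A := by
  rw [← h a ha h1]
  exact mem_centralizer_singleton_iff.2 e

theorem CC.comm (h : CC A) {a b : G} (ha : a ∈ A) (hb : b ∈ A) : a * b = b * a := by
  by_cases h1 : b = 1
  · simp [h1]
  · rw [← h b hb h1] at ha
    exact mem_centralizer_singleton_iff.1 ha

theorem CC.mem_norm (h : CC A) {a g : G} (ha : a ∈ A) (h1 : a ≠ 1) (hg : g * a * g⁻¹ ∈ A) :
    g ∈ normalizer (A : Set G) := by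
  have h2 : g * a * g⁻¹ ≠ 1 := fun e => h1 (by
    have : a = g⁻¹ * (g * a * g⁻¹) * g := by group
    rw [this, e]; group)
  intro x
  constructor
  · intro hx
    refine h.mem_of_comm hg h2 ?_
    have := h.comm hx ha
    calc g * x * g⁻¹ * (g * a * g⁻¹) = g * (x * a) * g⁻¹ := by group
      _ = g * (a * x) * g⁻¹ := by rw [this]
      _ = _ := by group
  · intro hx
    refine h.mem_of_comm ha h1 ?_
    have := h.comm hx hg
    calc x * a = g⁻¹ * (g * x * g⁻¹ * (g * a * g⁻¹)) * g := by group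
      _ = g⁻¹ * (g * a * g⁻¹ * (g * x * g⁻¹)) * g := by rw [this]
      _ = _ := by group

theorem CC.ti (h : CC A) : TIFN.TI A (normalizer (A : Set G)) where
  le := le_normalizer
  normal := inferInstance
  ti g hg k hk hk' := by
    by_contra h1
    exact hg (h.mem_norm hk h1 hk')
  cent k hk h1 := (h k hk h1).le

/-- an element commuting with an element near `A` is trivial or near `A` -/
theorem CC.near_of_comm (h : CC A) {g x : G} (hg : Near A g) (hx : x ≠ 1) (e : x * g = g * x) :
    Near A x := by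
  obtain ⟨a, ha, h1, c⟩ := hg
  obtain ⟨y, rfl⟩ := isConj_iff.1 c
  refine ⟨y⁻¹ * x * y, h.mem_of_comm ha h1 ?_, fun e' => hx ?_, isConj_iff.2 ⟨y, by group⟩⟩
  · calc y⁻¹ * x * y * a = y⁻¹ * (x * (y * a * y⁻¹)) * y := by group
      _ = y⁻¹ * (y * a * y⁻¹ * x) * y := by rw [e]
      _ = _ := by group
  · calc x = y * (y⁻¹ * x * y) * y⁻¹ := by group
      _ = 1 := by rw [e']; group

theorem Near.orderOf_dvd {g : G} (hg : Near A g) : orderOf g ∣ Nat.card A := by
  obtain ⟨a, ha, -, c⟩ := hg
  obtain ⟨y, rfl⟩ := isConj_iff.1 c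
  have : orderOf (y * a * y⁻¹) = orderOf a := (MulAut.conj y).orderOf_eq a
  rw [this]
  exact Subgroup.orderOf_dvd_natCard A ha

variable [Fintype G]

/-- sums over the elements near `A` -/
theorem CC.sum_near (h : CC A) {φ : G → ℂ} (hφ : IsClassFunction G φ) :
    (Nat.card (normalizer (A : Set G)) : ℂ) * ∑ g ∈ Finset.univ.filter (Near A), φ g =
      Nat.card G * ∑ a ∈ Finset.univ.filter (fun a => a ∈ A ∧ a ≠ 1), φ a := by
  have e1 : (Nat.card G : ℂ) * ∑ a ∈ Finset.univ.filter (fun a => a ∈ A ∧ a ≠ 1), φ a =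
      ∑ x : G, ∑ g : G, if x⁻¹ * g * x ∈ A ∧ x⁻¹ * g * x ≠ 1 then φ g else 0 := by
    rw [Nat.card_eq_fintype_card, ← Finset.card_univ, ← nsmul_eq_mul, ← Finset.sum_const]
    refine Finset.sum_congr rfl fun x _ => ?_
    rw [Finset.sum_filter]
    refine Fintype.sum_equiv (MulAut.conj x).toEquiv _ _ fun a => ?_
    have : x⁻¹ * (x * a * x⁻¹) * x = a := by group
    simp only [MulEquiv.toEquiv_eq_coe, EquivLike.coe_coe, MulAut.conj_apply, this]
    rw [hφ.eq_of_isConj (isConj_iff.2 ⟨x, rfl⟩)]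
  rw [e1, Finset.sum_comm, Finset.mul_sum, Finset.sum_filter]
  refine Finset.sum_congr rfl fun g _ => ?_
  rw [← Finset.sum_filter, Finset.sum_const, nsmul_eq_mul]
  split_ifs with hg
  · congr 1
    obtain ⟨a, ha, h1, c⟩ := hg
    obtain ⟨y, rfl⟩ := isConj_iff.1 c
    rw [Nat.card_eq_fintype_card, Fintype.card_subtype]
    norm_cast
    refine Finset.card_bij (fun n _ => y * n) (fun n hn => ?_) (fun _ _ _ _ e => mul_left_cancel e)
      (fun x hx => ⟨y⁻¹ * x, ?_, by group⟩)
    · have hn := (Finset.mem_filter.1 hn).2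
      have e : (y * n)⁻¹ * (y * a * y⁻¹) * (y * n) = n⁻¹ * a * n⁻¹⁻¹ := by group
      refine Finset.mem_filter.2 ⟨Finset.mem_univ _, ?_, fun e' => h1 ?_⟩
      · rw [e]; exact (inv_mem hn a).1 ha
      · rw [e] at e'
        calc a = n * (n⁻¹ * a * n⁻¹⁻¹) * n⁻¹ := by group
          _ = 1 := by rw [e']; group
    · have hx := (Finset.mem_filter.1 hx).2.1
      refine Finset.mem_filter.2 ⟨Finset.mem_univ _, ?_⟩
      have : (y⁻¹ * x)⁻¹ ∈ normalizer (A : Set G) :=
        h.mem_norm ha h1 (by convert hx using 1; group)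
      simpa using inv_mem this
  · rw [Finset.filter_eq_empty_iff.2, Finset.card_empty, Nat.cast_zero, zero_mul]
    rintro x - ⟨h1, h2⟩
    exact hg ⟨_, h1, h2, isConj_iff.2 ⟨x, by group⟩⟩

theorem sum_filter_const (c : ℂ) :
    ∑ _a ∈ Finset.univ.filter (fun a => a ∈ A ∧ a ≠ 1), c = (Nat.card A - 1) * c := by
  have : (Finset.univ.filter (fun a => a ∈ A ∧ a ≠ 1)).card + 1 = Nat.card A := by
    rw [Nat.card_eq_fintype_card, Fintype.card_subtype, ← Finset.card_erase_add_one (a := (1 : G))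
      (s := Finset.univ.filter (· ∈ A)) (by simp)]
    congr 2
    ext a; simp [and_comm]
  rw [Finset.sum_const, nsmul_eq_mul, ← this]
  push_cast; ring

theorem CC.card_near (h : CC A) :
    Nat.card (normalizer (A : Set G)) * (Finset.univ.filter (Near A)).card + Nat.card G =
      Nat.card G * Nat.card A := by
  have := h.sum_near (φ := fun _ => 1) (fun _ _ => rfl)
  rw [sum_filter_const, Finset.sum_const, nsmul_eq_mul] at this
  have e : ((Nat.card (normalizer (A : Set G)) * (Finset.univ.filter (Near A)).card +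
      Nat.card G : ℕ) : ℂ) = (Nat.card G * Nat.card A : ℕ) := by
    push_cast; linear_combination this
  exact_mod_cast e

theorem card_norm (A : Subgroup G) : Nat.card (normalizer (A : Set G)) =
    A.relIndex (normalizer (A : Set G)) * Nat.card A := by
  rw [← (A.subgroupOf (normalizer (A : Set G))).index_mul_card,
    Nat.card_congr (subgroupOfEquivOfLe (le_normalizer (H := A))).toEquiv]
  rfl

/-- the coset sums of a character over a normal subgroup -/
theorem norm_sum_coset_le (K : Subgroup G) [K.Normal] {χ : G → ℂ} (hχ : IsCharacter G χ) (g : G) :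
    ‖∑ k : K, χ (g * k)‖ ≤ (∑ k : K, χ k).re := by
  refine hχ.induction_on (P := fun χ => ‖∑ k : K, χ (g * k)‖ ≤ (∑ k : K, χ k).re) (by simp) ?_
  intro φ ψ hφ _ ih
  simp only [Pi.add_apply, Finset.sum_add_distrib, Complex.add_re]
  refine (norm_add_le _ _).trans (add_le_add ?_ ih)
  by_cases hk : ∃ n ∈ K, φ n ≠ φ 1
  · have h1 := sum_coset_eq_zero hφ K hk 1
    simp only [one_mul] at h1
    rw [sum_coset_eq_zero hφ K hk g, h1]; simp
  · push Not at hk
    obtain ⟨M, -, hM, hM'⟩ := isCharacter_exists_ker hφ.isCharacter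
    have e1 : ∀ k : K, φ (g * k) = φ g := fun k => by
      rw [← hM' k ((hM _).2 (hk k k.2)) g]
      exact hφ.isClassFunction.eq_of_isConj (isConj_iff.2 ⟨k, by group⟩)
    have e2 : ∀ k : K, φ k = φ 1 := fun k => hk k k.2
    obtain ⟨n, -, hn⟩ := hφ.exists_nat_one
    have := isCharacter_norm_le hφ.isCharacter g
    simp only [e1, e2, Finset.sum_const, nsmul_eq_mul, norm_mul, hn] at this ⊢
    simp only [Complex.norm_natCast, Complex.mul_re, Complex.natCast_re, Complex.natCast_im,
      mul_zero, sub_zero] at this ⊢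
    gcongr

/-- The exceptional characters of a strongly self-centralizing subgroup. -/
structure Exc (A : Subgroup G) (e : ℕ) (E : Finset (IrrCharacter G)) (ψ : G → ℂ) : Prop where
  card : E.card * e + 1 = Nat.card A
  const : ∀ φ ∉ E, ∃ c : ℤ, ∀ a ∈ A, a ≠ 1 → (φ : G → ℂ) a = c
  agree : ∀ φ ∈ E, ∀ φ' ∈ E, ∀ g, ¬ Near A g → (φ : G → ℂ) g = (φ' : G → ℂ) g
  nonconst : ∀ φ ∈ E, ∀ c : ℂ, ¬ ∀ a ∈ A, a ≠ 1 → (φ : G → ℂ) a = c
  gen : IsGeneralizedCharacter G ψ
  van : ∀ g, ¬ Near A g → ψ g = 0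
  norm : classInner ψ ψ = e + 1
  inner : ∀ φ : G → ℂ, IsClassFunction G φ → ∀ c : ℂ, (∀ a ∈ A, a ≠ 1 → φ a = c) →
    classInner ψ φ = conj c
  ex : ∃ X ∈ E, classInner ψ X ≠ 0

theorem CC.exists_exc (h : CC A) {e : ℕ} (he : A.relIndex (normalizer (A : Set G)) = e)
    (h2 : e + 1 < Nat.card A) : ∃ E ψ, Exc A e E ψ := by
  set N := normalizer (A : Set G) with hN
  set K := A.subgroupOf N with hK
  have T := h.ti
  have : K.Normal := T.normal
  have hKi : K.index = e := he
  have hKc : Nat.card K = Nat.card A :=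
    Nat.card_congr (subgroupOfEquivOfLe (le_normalizer (H := A))).toEquiv
  have hC := T.cent'
  have e0 : (e : ℂ) ≠ 0 := by rw [← hKi]; exact_mod_cast K.index_ne_zero_of_finite
  have hcomm : ∀ a b : K, a * b = b * a := fun a b =>
    Subtype.ext (Subtype.ext (h.comm a.2 b.2))
  have hdeg : ∀ χ ∈ TIFN.nker K, χ 1 = e := by
    rintro χ ⟨hχ, k, hk, hk1⟩
    have hr := hχ.isCharacter.restrict K
    have : ∃ θ, IsIrrCharacter K θ ∧ θ ≠ (fun _ => 1) ∧ classInner (fun k : K => χ k) θ ≠ 0 := by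
      by_contra hn
      push Not at hn
      have e1 := hr.isClassFunction.apply_eq_sum_irr ⟨k, hk⟩
      have e2 := hr.isClassFunction.apply_eq_sum_irr 1
      refine hk1 (e1.trans (Eq.trans ?_ e2.symm))
      refine Finset.sum_congr rfl fun θ _ => ?_
      by_cases h1 : (θ : K → ℂ) = fun _ => 1
      · rw [h1]
      · rw [hn θ θ.2 h1, zero_mul, zero_mul]
    obtain ⟨θ, hθ, hθ1, hi⟩ := this
    rw [← classInner_indFun_right K θ hχ.isClassFunction] at hi
    rw [hχ.eq_of_inner_ne_zero (TIFN.indFun_mem hC hθ hθ1).1 hi, indFun_one, hKi,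
      hθ.one_eq_one_of_comm hcomm, mul_one]
  have hcard : (TIFN.nkerF K).card * e + 1 = Nat.card A := by
    have := TIFN.sum_mem_sq (K := K)
    rw [Finset.sum_congr rfl (fun χ hχ => by rw [hdeg _ (TIFN.mem_nkerF.1 hχ)]), Finset.sum_const,
      nsmul_eq_mul, ← K.index_mul_card, hKi, hKc] at this
    have e' : (((TIFN.nkerF K).card * e + 1 : ℕ) : ℂ) = Nat.card A := by
      push_cast at this ⊢
      apply mul_left_cancel₀ e0
      linear_combination this
    exact_mod_cast e'
  have hcard2 : 1 < (TIFN.nkerF K).card := by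
    by_contra hh
    have : (TIFN.nkerF K).card * e ≤ 1 * e := Nat.mul_le_mul_right _ (by omega)
    omega
  have : Nontrivial (TIFN.nkerF K) := by
    rw [← Fintype.card_coe] at hcard2
    exact Fintype.one_lt_card_iff_nontrivial.1 hcard2
  have hm : ∀ i : TIFN.nkerF K, (i.1 : N → ℂ) ∈ TIFN.nker K := fun i => TIFN.mem_nkerF.1 i.2
  obtain ⟨ε, hε, θ, hθ, hinj, hθe⟩ := exists_exceptional_of_TI N (A : Set G) T.ti
    (fun i : TIFN.nkerF K => (i.1 : N → ℂ)) (fun i => i.1.2)
    (fun i j e => Subtype.ext (Subtype.ext e))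
    (fun i j x hx => by rw [T.apply_eq_zero (hm i) hx, T.apply_eq_zero (hm j) hx])
    (fun i j => by rw [hdeg _ (hm i), hdeg _ (hm j)])
  have ε0 : ε ≠ 0 := by rcases hε with rfl | rfl <;> norm_num
  let θ' : TIFN.nkerF K → IrrCharacter G := fun i => ⟨θ i, hθ i⟩
  have hinj' : Function.Injective θ' := fun i j e => hinj (congrArg Subtype.val e)
  -- the functions vanishing off `K`
  have hvan : ∀ α : N → ℂ, (∀ x : N, (x : G) ∉ A → α x = 0) → α 1 = 0 →
      ∀ g, ¬ Near A g → indFun N α g = 0 := fun α h0 h1 g hg => by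
    refine indFun_eq_zero N α g fun x hx => ?_
    by_cases ha : x * g * x⁻¹ ∈ A
    · by_cases hb : x * g * x⁻¹ = 1
      · rw [← h1]; congr 1; exact Subtype.ext hb
      · exact absurd ⟨_, ha, hb, isConj_iff.2 ⟨x⁻¹, by group⟩⟩ hg
    · exact h0 _ ha
  let α : TIFN.nkerF K → N → ℂ := fun i => indFun K (fun _ => 1) - (i.1 : N → ℂ)
  have α0 : ∀ i, ∀ x : N, (x : G) ∉ A → α i x = 0 := fun i x hx => by
    simp only [α, Pi.sub_apply]
    rw [T.apply_eq_zero (hm i) hx, indFun_eq_zero_of_normal K _ hx, sub_self]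
  have α1 : ∀ i, α i 1 = 0 := fun i => by
    simp only [α, Pi.sub_apply]
    rw [hdeg _ (hm i), indFun_one, hKi, mul_one, sub_self]
  have i1 : ∀ k : K, indFun K (fun _ => (1 : ℂ)) k = e := fun k => by
    rw [indFun_apply_of_normal, Finset.sum_const, nsmul_eq_mul, Finset.card_univ,
      ← Nat.card_eq_fintype_card, ← K.index_mul_card, hKi]
    have := card_ne_zero K
    push_cast; field_simp
  have αg : ∀ i, IsGeneralizedCharacter N (α i) := fun i =>
    (isGeneralizedCharacter_indFun K isGen_one).sub i.1.2.isGen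
  obtain ⟨i₀, j₀, hij⟩ := exists_pair_ne (TIFN.nkerF K)
  have hex : ∃ i, ∃ j, classInner (indFun N (α i)) (θ j) ≠ 0 := by
    by_contra hn
    push Not at hn
    have e1 : indFun N (α i₀) - indFun N (α j₀) = ε • (θ j₀ - θ i₀) := by
      rw [← hθe, ← indFun_sub, ← indFun_sub]
      congr 1
      simp only [α]; ring
    have := congrArg (fun f => classInner f (θ j₀)) e1
    simp only [classInner_sub_left, classInner_smul_left, hn, (hθ j₀).inner_self,
      (hθ i₀).inner_eq_zero (hθ j₀) (hinj.ne hij)] at this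
    exact ε0 (by linear_combination -this)
  obtain ⟨i₁, j₁, h₁⟩ := hex
  refine ⟨Finset.univ.image θ', indFun N (α i₁), ?_, ?_, ?_, ?_,
    isGeneralizedCharacter_indFun N (αg i₁), hvan _ (α0 i₁) (α1 i₁), ?_, ?_,
    ⟨θ' j₁, Finset.mem_image_of_mem _ (Finset.mem_univ _), h₁⟩⟩
  · rw [Finset.card_image_of_injective _ hinj', Finset.card_univ, Fintype.card_coe, hcard]
  · intro φ hφ
    have hne : ∀ i, (φ : G → ℂ) ≠ θ i := fun i e =>
      hφ (Finset.mem_image.2 ⟨i, Finset.mem_univ _, Subtype.ext e.symm⟩)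
    have hr := φ.2.isCharacter.restrict N
    obtain ⟨m, hm0⟩ := hr.exists_nat_inner i₀.1.2.isCharacter
    have hc : ∀ χ ∈ TIFN.nker K, classInner (fun n : N => (φ : G → ℂ) n) χ = m / e * χ 1 := by
      intro χ hχ
      let i : TIFN.nkerF K := ⟨⟨χ, hχ.1⟩, TIFN.mem_nkerF.2 hχ⟩
      have := congrArg (classInner (φ : G → ℂ)) (hθe i i₀)
      rw [classInner_sub_right, classInner_indFun_right N _ φ.2.isClassFunction,
        classInner_indFun_right N _ φ.2.isClassFunction, classInner_smul_right,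
        classInner_sub_right, φ.2.inner_eq_zero (hθ i) (hne i),
        φ.2.inner_eq_zero (hθ i₀) (hne i₀), hm0] at this
      rw [hdeg _ hχ, div_mul_cancel₀ _ e0]
      linear_combination this
    obtain ⟨z, hz⟩ := TIFN.exists_int_sum_not_mem (K := K) hr.isGen
    refine ⟨z - m, fun a ha h1 => ?_⟩
    have := TIFN.apply_eq_of_inner hr.isClassFunction hc (k := ⟨a, le_normalizer ha⟩) ha
      (fun e => h1 (congrArg Subtype.val e))
    rw [hz, hKi, div_mul_cancel₀ _ e0] at this
    rw [this]; push_cast; ring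
  · intro φ hφ φ' hφ' g hg
    obtain ⟨i, -, rfl⟩ := Finset.mem_image.1 hφ
    obtain ⟨j, -, rfl⟩ := Finset.mem_image.1 hφ'
    have := congrFun (hθe i j) g
    rw [← indFun_sub, hvan _ (fun x hx => by
      rw [Pi.sub_apply, T.apply_eq_zero (hm i) hx, T.apply_eq_zero (hm j) hx, sub_self])
      (by rw [Pi.sub_apply, hdeg _ (hm i), hdeg _ (hm j), sub_self]) g hg] at this
    exact sub_eq_zero.1 ((mul_eq_zero.1 this.symm).resolve_left ε0)
  · intro φ hφ c hc
    obtain ⟨i, -, rfl⟩ := Finset.mem_image.1 hφ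
    obtain ⟨j, hj⟩ := exists_ne i
    have := congrArg (classInner (θ i)) (hθe i j)
    rw [← indFun_sub, classInner_indFun_right N _ (hθ i).isClassFunction, classInner_smul_right,
      classInner_sub_right (θ i), (hθ i).inner_self, (hθ i).inner_eq_zero (hθ j) (hinj.ne hj.symm),
      TIFN.inner_eq_zero_of_const (K := K) (c := c)
        (fun k hk h1 => hc k hk fun e => h1 (Subtype.ext e))
        (fun x hx => by
          rw [Pi.sub_apply, T.apply_eq_zero (hm i) hx, T.apply_eq_zero (hm j) hx, sub_self])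
        (by rw [Pi.sub_apply, hdeg _ (hm i), hdeg _ (hm j), sub_self])
        (by simp only [Pi.sub_apply, Finset.sum_sub_distrib]
            rw [TIFN.sum_eq_zero_of_mem (hm i), TIFN.sum_eq_zero_of_mem (hm j), sub_self])] at this
    rcases hε with rfl | rfl <;> simp at this
  · rw [classInner_indFun_indFun_of_TI N (A : Set G) T.ti (αg i₁).isClassFunction (α0 i₁) (α0 i₁)
      (α1 i₁)]
    have a1 : classInner (i₁.1 : N → ℂ) (indFun K fun _ => 1) = 0 := by
      rw [classInner_indFun_right K _ i₁.1.2.isClassFunction,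
        TIFN.inner_restrict_one_of_mem (hm i₁)]
    have a2 : classInner (indFun K fun _ => 1) (i₁.1 : N → ℂ) = 0 := by
      rw [← classInner_conj_symm, a1, map_zero]
    have a3 : classInner (indFun K fun _ => (1 : ℂ)) (indFun K fun _ => 1) = e := by
      rw [classInner_indFun_right K _ (isClassFunction_indFun K _), funext i1,
        classInner_one_right, Finset.sum_const, nsmul_eq_mul, Finset.card_univ,
        ← Nat.card_eq_fintype_card, inv_mul_cancel_left₀ (card_ne_zero K)]
    simp only [α]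
    rw [classInner_sub_left, classInner_sub_right, classInner_sub_right, a1, a2, a3,
      i₁.1.2.inner_self]
    ring
  · intro φ hφ c hc
    rw [classInner_indFun_left N _ hφ]
    have e1 : classInner (α i₁) (fun n : N => φ n) = classInner (α i₁) (fun _ => c) := by
      rw [classInner_def, classInner_def]
      congr 1
      refine Finset.sum_congr rfl fun x _ => ?_
      by_cases hx : (x : G) ∈ A
      · by_cases h1 : x = 1
        · rw [h1, α1, zero_mul, zero_mul]
        · rw [hc x hx fun e => h1 (Subtype.ext e)]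
      · rw [α0 i₁ x hx, zero_mul, zero_mul]
    have e2 : (fun _ : N => c) = c • fun _ => (1 : ℂ) := by ext; simp
    have hne : (i₁.1 : N → ℂ) ≠ fun _ => 1 := fun e => by
      obtain ⟨-, k, -, hk⟩ := hm i₁
      exact hk (by rw [e])
    rw [e1, e2, classInner_smul_right]
    simp only [α]
    rw [classInner_sub_left, classInner_indFun_left K _ isIrrCharacter_one.isClassFunction,
      isIrrCharacter_one.inner_self, i₁.1.2.inner_eq_zero isIrrCharacter_one hne]
    ring

end Cfsg.Agent.SCS
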