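import Mathlib
import Cfsg.Agent.SCS.Exc
import Cfsg.Agent.Char.Euclid

/-! Strongly self-centralizing subgroups: involutions, and the case of index two. -/

set_option autoImplicit false
set_option linter.unusedSectionVars false

namespace Cfsg.Agent.SCS

open Cfsg Cfsg.Agent.Char Subgroup
open scoped ComplexConjugate Classical

variable {G : Type*} [Group G] {A : Subgroup G}

theorem CC.inverts (h : CC A) {u : G} (hu : u ∈ normalizer (A : Set G)) (huA : u ∉ A)
    (h2 : u * u ∈ A) : u * u = 1 ∧ ∀ a ∈ A, u * a * u⁻¹ = a⁻¹ := by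
  refine ⟨by_contra fun hn => huA (h.mem_of_comm h2 hn (by group)), fun a ha => ?_⟩
  have hb := (hu a).1 ha
  by_contra hn
  refine huA (h.mem_of_comm (mul_mem ha hb) (fun e => hn (eq_inv_of_mul_eq_one_right e)) ?_)
  have e1 := h.comm ha hb
  have e2 := h.comm ha h2
  calc u * (a * (u * a * u⁻¹)) = u * a * u⁻¹ * (u * u * a) * u⁻¹ := by group
    _ = u * a * u⁻¹ * (a * (u * u)) * u⁻¹ := by rw [e2]
    _ = (u * a * u⁻¹ * a) * u := by group
    _ = _ := by rw [← e1]

theorem CC.odd [Finite G] (h : CC A) {u : G} (huA : u ∉ A) (hi : ∀ a ∈ A, u * a * u⁻¹ = a⁻¹) :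
    Odd (Nat.card A) := by
  by_contra hn
  have : Fact (Nat.Prime 2) := ⟨Nat.prime_two⟩
  obtain ⟨a, ha⟩ := exists_prime_orderOf_dvd_card' (G := A) 2
    (even_iff_two_dvd.1 (Nat.not_odd_iff_even.1 hn))
  have h1 : (a : G) ≠ 1 := fun e => by
    rw [show a = 1 from Subtype.ext e, orderOf_one] at ha; omega
  have h2 : (a : G) * a = 1 := by
    have := pow_orderOf_eq_one a
    rw [ha, pow_two] at this
    exact congrArg Subtype.val this
  refine huA (h.mem_of_comm a.2 h1 ?_)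
  have := hi a a.2
  rw [inv_eq_of_mul_eq_one_right h2] at this
  exact mul_inv_eq_iff_eq_mul.1 this

theorem isConj_mul_of_inverts [Finite G] (ho : Odd (Nat.card A)) {u : G}
    (hi : ∀ a ∈ A, u * a * u⁻¹ = a⁻¹) {a : G} (ha : a ∈ A) : IsConj u (a * u) := by
  obtain ⟨k, hk⟩ := ho
  have e : a ^ (k + 1) * a ^ (k + 1) = a := by
    have : (⟨a, ha⟩ : A) ^ Nat.card A = 1 := pow_card_eq_one'
    have h2 : a ^ Nat.card A = 1 := congrArg Subtype.val this
    rw [← pow_add, show k + 1 + (k + 1) = Nat.card A + 1 by omega, pow_succ, h2, one_mul]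
  refine isConj_iff.2 ⟨a ^ (k + 1), ?_⟩
  have := hi _ (inv_mem (pow_mem ha (k + 1)))
  rw [inv_inv] at this
  calc a ^ (k + 1) * u * (a ^ (k + 1))⁻¹ = a ^ (k + 1) * (u * (a ^ (k + 1))⁻¹ * u⁻¹) * u := by group
    _ = a * u := by rw [this, e]

/-- an involution inverting `A`, when the automizer has even order -/
theorem CC.exists_inv [Finite G] (h : CC A) (he : 2 ∣ A.relIndex (normalizer (A : Set G))) :
    ∃ u ∈ normalizer (A : Set G), u ∉ A ∧ u * u = 1 ∧ ∀ a ∈ A, u * a * u⁻¹ = a⁻¹ := by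
  have : Fact (Nat.Prime 2) := ⟨Nat.prime_two⟩
  obtain ⟨q, hq⟩ := exists_prime_orderOf_dvd_card'
    (G := normalizer (A : Set G) ⧸ A.subgroupOf (normalizer (A : Set G))) 2 he
  obtain ⟨u, rfl⟩ := QuotientGroup.mk_surjective q
  have h1 : (u : G) ∉ A := fun e => by
    rw [(QuotientGroup.eq_one_iff u).2 e, orderOf_one] at hq; omega
  have h2 : (u : G) * u ∈ A := by
    have := pow_orderOf_eq_one (u : normalizer (A : Set G) ⧸ A.subgroupOf (normalizer (A : Set G)))
    rw [hq, pow_two, ← QuotientGroup.mk_mul, QuotientGroup.eq_one_iff] at this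
    exact this
  exact ⟨u, u.2, h1, h.inverts u.2 h1 h2⟩

theorem orderOf_eq_two {u : G} (h2 : u * u = 1) (h1 : u ≠ 1) : orderOf u = 2 :=
  haveI : Fact (Nat.Prime 2) := ⟨Nat.prime_two⟩
  orderOf_eq_prime (by rw [pow_two, h2]) h1

theorem mul_self_of_two {u : G} (h : orderOf u = 2) : u * u = 1 := by
  rw [← pow_two, ← h, pow_orderOf_eq_one]

theorem orderOf_isConj {a b : G} (h : IsConj a b) : orderOf a = orderOf b := by
  obtain ⟨y, rfl⟩ := isConj_iff.1 h
  exact ((MulAut.conj y).orderOf_eq a).symm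

/-- an element of order four -/
theorem CC.exists_four [Finite G] (h : CC A) (hA : 1 < Nat.card A)
    (he : A.relIndex (normalizer (A : Set G)) = 4) :
    ∃ f ∈ normalizer (A : Set G), orderOf f = 4 ∧ ∀ a ∈ A, f * f * a * (f * f)⁻¹ = a⁻¹ := by
  set N := normalizer (A : Set G)
  have : Fact (Nat.Prime 2) := ⟨Nat.prime_two⟩
  have hc : Nat.card (N ⧸ A.subgroupOf N) = 4 := he
  have : ∃ q : N ⧸ A.subgroupOf N, q * q ≠ 1 := by
    by_contra hn
    push Not at hn
    have := Fintype.ofFinite (N ⧸ A.subgroupOf N)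
    obtain ⟨q1, q2, h1, h2, h3⟩ : ∃ q1 q2 : N ⧸ A.subgroupOf N, q1 ≠ 1 ∧ q2 ≠ 1 ∧ q1 ≠ q2 := by
      have : 2 < Fintype.card (N ⧸ A.subgroupOf N) := by rw [← Nat.card_eq_fintype_card]; omega
      obtain ⟨a, b, c, hab, hac, hbc⟩ := Fintype.two_lt_card_iff.1 this
      by_cases ha : a = 1
      · exact ⟨b, c, fun e => hab (ha.trans e.symm), fun e => hac (ha.trans e.symm), hbc⟩
      · by_cases hb : b = 1
        · exact ⟨a, c, ha, fun e => hbc (hb.trans e.symm), hac⟩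
        · exact ⟨a, b, ha, hb, hab⟩
    obtain ⟨u, rfl⟩ := QuotientGroup.mk_surjective q1
    obtain ⟨v, rfl⟩ := QuotientGroup.mk_surjective q2
    have k : ∀ w : N, (w : N ⧸ A.subgroupOf N) ≠ 1 → ∀ a ∈ A, (w : G) * a * (w : G)⁻¹ = a⁻¹ :=
      fun w hw => (h.inverts w.2 (fun e => hw ((QuotientGroup.eq_one_iff w).2 e)) (by
        have := hn w
        rw [← QuotientGroup.mk_mul, QuotientGroup.eq_one_iff] at this
        exact this)).2
    have : Nontrivial A := Finite.one_lt_card_iff_nontrivial.1 hA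
    obtain ⟨a, ha⟩ := exists_ne (1 : A)
    have e : ((u : G)⁻¹ * v) * a = a * ((u : G)⁻¹ * v) := by
      have e1 := k u h1 a a.2
      have e2 := k v h2 a a.2
      calc ((u : G)⁻¹ * v) * a = (u : G)⁻¹ * ((v : G) * a * (v : G)⁻¹) * v := by group
        _ = (u : G)⁻¹ * ((u : G) * a * (u : G)⁻¹) * v := by rw [e1, e2]
        _ = _ := by group
    exact h3 (QuotientGroup.eq.2 (h.mem_of_comm a.2 (fun e => ha (Subtype.ext e)) e))
  obtain ⟨q, hq⟩ := this
  obtain ⟨f, rfl⟩ := QuotientGroup.mk_surjective q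
  have h1 : (f : G) * f ∉ A := fun e => hq (by
    rw [← QuotientGroup.mk_mul, QuotientGroup.eq_one_iff]; exact e)
  have h2 : (f : G) * f * (f * f) ∈ A := by
    have : (f : N ⧸ A.subgroupOf N) ^ 4 = 1 := by rw [← hc]; exact pow_card_eq_one'
    rw [← QuotientGroup.mk_pow, QuotientGroup.eq_one_iff] at this
    have e : (f : G) * f * (f * f) = ((f ^ 4 : N) : G) := by
      simp only [pow_succ, pow_zero, one_mul, mul_assoc]; rfl
    rw [e]; exact this
  obtain ⟨h3, h4⟩ := h.inverts (mul_mem f.2 f.2) h1 h2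
  refine ⟨f, f.2, ?_, h4⟩
  refine orderOf_eq_prime_pow (p := 2) (n := 1) (fun e => h1 ?_) ?_
  · rw [pow_one, pow_two] at e; rw [e]; exact one_mem A
  · rw [← h3, show 2 ^ (1 + 1) = 4 from rfl]; simp only [pow_succ, pow_zero, one_mul, mul_assoc]

variable [Fintype G]

/-- the number of ways of writing `g` as a quotient of two conjugates of `z` -/
noncomputable def cnt (z g : G) : ℕ :=
  (Finset.univ.filter fun p : G × G => IsConj z p.1 ∧ IsConj z p.2 ∧ p.1 * p.2⁻¹ = g).card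

theorem cnt_conj (z g x : G) : cnt z (x * g * x⁻¹) = cnt z g := by
  unfold cnt
  symm
  refine Finset.card_bij (fun p _ => (x * p.1 * x⁻¹, x * p.2 * x⁻¹)) (fun p hp => ?_)
    (fun p _ q _ e => ?_) (fun p hp => ⟨(x⁻¹ * p.1 * x, x⁻¹ * p.2 * x), ?_, ?_⟩)
  · obtain ⟨h1, h2, h3⟩ := (Finset.mem_filter.1 hp).2
    refine Finset.mem_filter.2 ⟨Finset.mem_univ _, h1.trans (isConj_iff.2 ⟨x, rfl⟩),
      h2.trans (isConj_iff.2 ⟨x, rfl⟩), ?_⟩
    rw [← h3]; group
  · simp only [Prod.mk.injEq, mul_left_inj, mul_right_inj] at e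
    exact Prod.ext e.1 e.2
  · obtain ⟨h1, h2, h3⟩ := (Finset.mem_filter.1 hp).2
    refine Finset.mem_filter.2 ⟨Finset.mem_univ _, h1.trans (isConj_iff.2 ⟨x⁻¹, by group⟩),
      h2.trans (isConj_iff.2 ⟨x⁻¹, by group⟩), ?_⟩
    calc x⁻¹ * p.1 * x * (x⁻¹ * p.2 * x)⁻¹ = x⁻¹ * (p.1 * p.2⁻¹) * x := by group
      _ = g := by rw [h3]; group
  · ext <;> simp only <;> group

theorem sum_cnt {M : Type*} [AddCommMonoid M] (z : G) (φ : G → M) :
    ∑ b ∈ Finset.univ.filter (IsConj z), ∑ a ∈ Finset.univ.filter (IsConj z), φ (a * b⁻¹) =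
      ∑ g, cnt z g • φ g := by
  rw [Finset.sum_comm, ← Finset.sum_product', ← Finset.sum_fiberwise (g := fun p => p.1 * p.2⁻¹)]
  refine Finset.sum_congr rfl fun g _ => ?_
  rw [Finset.sum_congr rfl (g := fun _ => φ g) (fun p hp => by rw [(Finset.mem_filter.1 hp).2]),
    Finset.sum_const]
  congr 2
  ext p; simp [and_assoc]

theorem card_filter_isConj (z : G) :
    (Finset.univ.filter (IsConj z)).card = (centralizer ({z} : Set G)).index := by
  have h1 := card_centralizer_mul_card_isConj z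
  have h3 : Nat.card {x // IsConj z x} = (Finset.univ.filter (IsConj z)).card := by
    rw [Nat.card_eq_fintype_card, Fintype.card_subtype]
  rw [← (centralizer ({z} : Set G)).card_mul_index, h3] at h1
  have h2 : Nat.card (centralizer ({z} : Set G)) * (Finset.univ.filter (IsConj z)).card =
      Nat.card (centralizer ({z} : Set G)) * (centralizer ({z} : Set G)).index := by
    exact_mod_cast h1
  exact Nat.eq_of_mul_eq_mul_left Nat.card_pos h2

theorem le_cnt (ho : Odd (Nat.card A)) {z u : G} (hz : IsConj z u)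
    (hi : ∀ a ∈ A, u * a * u⁻¹ = a⁻¹) {g : G} (hg : Near A g) : Nat.card A ≤ cnt z g := by
  obtain ⟨a, ha, -, c⟩ := hg
  obtain ⟨x, rfl⟩ := isConj_iff.1 c
  rw [cnt_conj, Nat.card_eq_fintype_card, Fintype.card_subtype]
  refine Finset.card_le_card_of_injOn (fun b => (b * u, a⁻¹ * b * u)) (fun b hb => ?_)
    (fun b _ c _ e => mul_right_cancel (congrArg Prod.fst e))
  have hb : b ∈ A := (Finset.mem_filter.1 hb).2
  refine Finset.mem_filter.2 ⟨Finset.mem_univ _, hz.trans (isConj_mul_of_inverts ho hi hb),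
    hz.trans (isConj_mul_of_inverts ho hi (mul_mem (inv_mem ha) hb)), by group⟩

theorem CC.mem_of_pair (h : CC A) {z : G} (hz : z * z = 1) {u v a : G} (hu : IsConj z u)
    (hv : IsConj z v) (ha : a ∈ A) (h1 : a ≠ 1) (e : u * v⁻¹ = a) :
    u ∈ normalizer (A : Set G) := by
  have k : ∀ w, IsConj z w → w⁻¹ = w := fun w hw => by
    obtain ⟨x, rfl⟩ := isConj_iff.1 hw
    refine inv_eq_of_mul_eq_one_right ?_
    calc x * z * x⁻¹ * (x * z * x⁻¹) = x * (z * z) * x⁻¹ := by group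
      _ = 1 := by rw [hz]; group
  refine h.mem_norm ha h1 ?_
  have : u * a * u⁻¹ = a⁻¹ := by
    rw [← e, mul_inv_rev, inv_inv, k v hv, ← mul_assoc]
    nth_rw 1 [← k u hu]
    rw [inv_mul_cancel, one_mul]
  rw [this]; exact inv_mem ha

namespace Exc

variable {e : ℕ} {E : Finset (IrrCharacter G)} {ψ : G → ℂ}

theorem one_not_mem (h : Exc A e E ψ) : irrOne G ∉ E := fun hm =>
  h.nonconst _ hm 1 fun _ _ _ => rfl

theorem exists_coef (h : Exc A e E ψ) : ∃ c : IrrCharacter G → ℤ,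
    (∀ φ ∉ E, ∀ a ∈ A, a ≠ 1 → (φ : G → ℂ) a = c φ) ∧ c (irrOne G) = 1 ∧
    ∑ φ, c φ ^ 2 = e + 1 ∧ (∃ X ∈ E, c X ≠ 0) ∧
    ∀ g, ψ g = ∑ φ : IrrCharacter G, (c φ : ℂ) * (φ : G → ℂ) g := by
  obtain ⟨c, hc, hs⟩ := h.gen.exists_coeff
  refine ⟨c, fun φ hφ a ha h1 => ?_, ?_, ?_, ?_, fun g => ?_⟩
  · obtain ⟨z, hz⟩ := h.const φ hφ
    rw [← hc, h.inner _ φ.2.isClassFunction z hz, hz a ha h1]; simp
  · have := h.inner _ (irrOne G).2.isClassFunction 1 fun _ _ _ => rfl
    rw [hc, map_one] at this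
    exact_mod_cast this
  · have := h.gen.inner_self_eq_sum_sq hc
    rw [h.norm] at this
    exact_mod_cast this.symm
  · obtain ⟨X, hX, h0⟩ := h.ex
    exact ⟨X, hX, fun e => h0 (by rw [hc, e]; simp)⟩
  · conv_lhs => rw [hs]
    simp

theorem exists_val (h : Exc A e E ψ) : ∃ c : IrrCharacter G → ℤ,
    (∀ φ ∉ E, ∀ a ∈ A, a ≠ 1 → (φ : G → ℂ) a = c φ) ∧ c (irrOne G) = 1 ∧
    ∀ S : Finset (IrrCharacter G), (∀ φ ∈ S, φ ∉ E) → ∑ φ ∈ S, c φ ^ 2 ≤ e := by
  obtain ⟨c, h1, h2, h3, ⟨X, hX, h4⟩, -⟩ := h.exists_coef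
  refine ⟨c, h1, h2, fun S hS => ?_⟩
  have : ∑ φ ∈ insert X S, c φ ^ 2 ≤ ∑ φ, c φ ^ 2 :=
    Finset.sum_le_sum_of_subset_of_nonneg (Finset.subset_univ _) fun _ _ _ => sq_nonneg _
  rw [Finset.sum_insert fun hm => hS X hm hX, h3] at this
  have : 0 < c X ^ 2 := by positivity
  omega

theorem not_mem {B : Subgroup G} {e' : ℕ} {E' : Finset (IrrCharacter G)} {ψ' : G → ℂ}
    (h : Exc A e E ψ) (h' : Exc B e' E' ψ') (h2 : 1 < E.card)
    (hd : ∀ g, Near A g → ¬ Near B g) {φ : IrrCharacter G} (hφ : φ ∈ E) : φ ∉ E' := by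
  intro hφ'
  obtain ⟨φ', h1, hne⟩ := Finset.exists_mem_ne h2 φ
  have ag : ∀ g, Near B g → (φ' : G → ℂ) g = (φ : G → ℂ) g := fun g hg =>
    h.agree _ h1 _ hφ g fun hA => hd g hA hg
  have h3 : φ' ∈ E' := by
    by_contra hn
    obtain ⟨c, hc⟩ := h'.const _ hn
    exact h'.nonconst _ hφ' c fun a ha h1 => by rw [← ag a (near_of_mem ha h1), hc a ha h1]
  refine hne (Subtype.ext (funext fun g => ?_))
  by_cases hg : Near B g
  · exact ag g hg
  · exact h'.agree _ h3 _ hφ' g hg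

end Exc

theorem sum_of_const {φ : G → ℂ} {c : ℂ} (hc : ∀ a ∈ A, a ≠ 1 → φ a = c) :
    ∑ a : A, φ a = φ 1 + (Nat.card A - 1) * c := by
  rw [← sum_filter_const, ← Finset.sum_congr rfl (f := φ)
    (fun a ha => hc a (Finset.mem_filter.1 ha).2.1 (Finset.mem_filter.1 ha).2.2),
    ← Finset.sum_subtype (Finset.univ.filter (· ∈ A)) (by simp) φ,
    ← Finset.add_sum_erase _ _ (a := (1 : G)) (by simp)]
  congr 2
  ext a; simp [and_comm]

theorem dvd_of_const {φ : G → ℂ} (hφ : IsCharacter G φ) {x c : ℤ} (hx : φ 1 = x)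
    (hc : ∀ a ∈ A, a ≠ 1 → φ a = c) : (Nat.card A : ℤ) ∣ x - c := by
  obtain ⟨m, hm⟩ := (hφ.restrict A).exists_nat_inner isCharacter_one
  rw [classInner_one_right, sum_of_const hc, hx, inv_mul_eq_iff_eq_mul₀ (card_ne_zero A)] at hm
  refine ⟨m - c, ?_⟩
  have : ((x - c : ℤ) : ℂ) = ((Nat.card A * (m - c) : ℤ) : ℂ) := by
    push_cast; linear_combination hm
  exact_mod_cast this

theorem abs_le_of_const (ho : Odd (Nat.card A)) {u : G} (hu : u ∈ normalizer (A : Set G))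
    (hi : ∀ a ∈ A, u * a * u⁻¹ = a⁻¹) {φ : G → ℂ} (hφ : IsCharacter G φ) {x c s : ℤ}
    (hx : φ 1 = x) (hc : ∀ a ∈ A, a ≠ 1 → φ a = c) (hs : φ u = s) :
    Nat.card A * |s| ≤ x + (Nat.card A - 1) * c := by
  set N := normalizer (A : Set G)
  have := norm_sum_coset_le (A.subgroupOf N) (hφ.restrict N) ⟨u, hu⟩
  have e := (subgroupOfEquivOfLe (le_normalizer (H := A))).toEquiv
  have e1 : ∑ k : A.subgroupOf N, φ ((k : N) : G) = ∑ a : A, φ a :=
    Fintype.sum_equiv (subgroupOfEquivOfLe (le_normalizer (H := A))).toEquiv _ _ fun _ => rfl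
  have e2 : ∀ k : A.subgroupOf N, φ (((⟨u, hu⟩ * k : N)) : G) = s := fun k => by
    rw [← hs]
    refine (hφ.isClassFunction.eq_of_isConj ((isConj_mul_of_inverts ho hi k.2).trans
      (isConj_iff.2 ⟨u, ?_⟩))).symm
    simp only [coe_mul]; group; rfl
  simp only [e2] at this
  rw [e1, sum_of_const hc, hx, Finset.sum_const, nsmul_eq_mul, Finset.card_univ,
    ← Nat.card_eq_fintype_card, Nat.card_congr e] at this
  have e3 : ((x : ℂ) + (Nat.card A - 1) * c) = ((x + (Nat.card A - 1) * c : ℤ) : ℂ) := by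
    push_cast; ring
  rw [e3, Complex.intCast_re, norm_mul, Complex.norm_natCast, Complex.norm_intCast] at this
  exact_mod_cast this

theorem exists_third {ι : Type*} [Fintype ι] (c : ι → ℤ) {a b : ι} (hab : a ≠ b) (ha : c a = 1)
    (hb : c b ≠ 0) (h3 : ∑ i, c i ^ 2 = 3) : ∃ d, d ≠ a ∧ d ≠ b ∧ (c b = 1 ∨ c b = -1) ∧
      (c d = 1 ∨ c d = -1) ∧ ∀ i, i ≠ a → i ≠ b → i ≠ d → c i = 0 := by
  rw [← Finset.add_sum_erase _ _ (Finset.mem_univ a), ← Finset.add_sum_erase _ _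
    (Finset.mem_erase.2 ⟨hab.symm, Finset.mem_univ b⟩), ha] at h3
  have h0 : 0 ≤ ∑ i ∈ (Finset.univ.erase a).erase b, c i ^ 2 :=
    Finset.sum_nonneg fun _ _ => sq_nonneg _
  have hb' : c b = 1 ∨ c b = -1 := by
    have : c b ≤ 1 := by nlinarith
    have : -1 ≤ c b := by nlinarith
    omega
  have h1 : ∑ i ∈ (Finset.univ.erase a).erase b, c i ^ 2 = 1 := by
    rcases hb' with e | e <;> rw [e] at h3 <;> linarith
  obtain ⟨d, hd, hd0⟩ := Finset.exists_ne_zero_of_sum_ne_zero (h1.trans_ne one_ne_zero)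
  rw [← Finset.add_sum_erase _ _ hd] at h1
  have h2 : 0 ≤ ∑ i ∈ ((Finset.univ.erase a).erase b).erase d, c i ^ 2 :=
    Finset.sum_nonneg fun _ _ => sq_nonneg _
  have h4 : 0 < c d ^ 2 := lt_of_le_of_ne (sq_nonneg _) hd0.symm
  have hd' : c d = 1 ∨ c d = -1 := by
    have : c d ≤ 1 := by nlinarith
    have : -1 ≤ c d := by nlinarith
    have : c d ≠ 0 := fun e => hd0 (by rw [e]; rfl)
    omega
  refine ⟨d, by simpa using (Finset.mem_erase.1 (Finset.mem_erase.1 hd).2).1,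
    (Finset.mem_erase.1 hd).1, hb', hd', fun i h5 h6 h7 => ?_⟩
  have := (Finset.sum_eq_zero_iff_of_nonneg fun i _ => sq_nonneg (c i)).1
    (show ∑ i ∈ ((Finset.univ.erase a).erase b).erase d, c i ^ 2 = 0 by omega) i (by simp [*])
  exact pow_eq_zero_iff two_ne_zero |>.1 this

/-- The characters attached to a strongly self-centralizing subgroup of index two in its
normalizer. -/
structure Two (A : Subgroup G) (E : Finset (IrrCharacter G)) (χ : IrrCharacter G) (δ : ℤ) (t : G)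
    (x s : ℤ) : Prop where
  hδ : δ = 1 ∨ δ = -1
  ne : χ ≠ irrOne G
  notE : χ ∉ E
  val : ∀ a ∈ A, a ≠ 1 → (χ : G → ℂ) a = δ
  rel : ∀ X ∈ E, ∀ g, ¬ Near A g → (X : G → ℂ) g = (χ : G → ℂ) g + δ
  zero : ∀ φ ∉ E, φ ≠ irrOne G → φ ≠ χ → ∀ a ∈ A, a ≠ 1 → (φ : G → ℂ) a = 0
  ht : orderOf t = 2
  one : ∀ z, orderOf z = 2 → IsConj t z
  hx : (χ : G → ℂ) 1 = x
  hs : (χ : G → ℂ) t = s
  x2 : 2 ≤ x
  lt : s < x
  formula : ((centralizer ({t} : Set G)).index : ℤ) ^ 2 * (x - s) ^ 2 =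
    Nat.card A * Nat.card G * x * (x + δ)

theorem CC.exists_two [IsSimpleGroup G] (hG : ¬ IsMulCommutative G) (h : CC A)
    (he : A.relIndex (normalizer (A : Set G)) = 2) {E : Finset (IrrCharacter G)} {ψ : G → ℂ}
    (hE : Exc A 2 E ψ) : ∃ χ δ t x s, Two A E χ δ t x s := by
  obtain ⟨c, c1, c2, c3, ⟨X, hX, c4⟩, c5⟩ := hE.exists_coef
  have hX1 : irrOne G ≠ X := fun e => hE.one_not_mem (e ▸ hX)
  obtain ⟨χ, d1, d2, d3, d4, d5⟩ := exists_third c hX1 c2 c4 c3
  have hψ : ∀ g, ψ g = 1 + c X * (X : G → ℂ) g + c χ * (χ : G → ℂ) g := fun g => by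
    rw [c5, ← Finset.add_sum_erase _ _ (Finset.mem_univ (irrOne G)), ← Finset.add_sum_erase _ _
      (Finset.mem_erase.2 ⟨hX1.symm, Finset.mem_univ X⟩), ← Finset.add_sum_erase _ _ (a := χ)
      (by simp [*]), Finset.sum_eq_zero fun i hi => by
        simp only [Finset.mem_erase] at hi
        rw [d5 i hi.2.2.1 hi.2.1 hi.1]; simp, c2]
    simp [irrOne, add_assoc]
  obtain ⟨x, x0, hx⟩ := χ.2.exists_nat_one
  obtain ⟨y, y0, hy⟩ := X.2.exists_nat_one
  have h1 := hψ 1
  rw [hE.van 1 (not_near_one A), hx, hy] at h1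
  have h1' : 0 = 1 + c X * y + c χ * x := by exact_mod_cast h1
  have hχE : χ ∉ E := fun hm => by
    have := hE.agree _ hm _ hX 1 (not_near_one A)
    rw [hx, hy] at this
    have : x = y := by exact_mod_cast this
    rcases d3 with e | e <;> rcases d4 with e' | e' <;> rw [e, e'] at h1' <;> omega
  have hs : c X = -c χ ∧ (y : ℤ) = x + c χ := by
    rcases d3 with e | e <;> rcases d4 with e' | e' <;> rw [e, e'] at h1' ⊢ <;> omega
  have hδ : (c χ : ℂ) * c χ = 1 := by rcases d4 with e | e <;> rw [e] <;> norm_num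
  have hrel : ∀ g, ¬ Near A g → (X : G → ℂ) g = (χ : G → ℂ) g + c χ := fun g hg => by
    have := hψ g
    rw [hE.van g hg, hs.1] at this
    push_cast at this
    linear_combination (c χ : ℂ) * this + ((χ : G → ℂ) g - (X : G → ℂ) g) * hδ
  obtain ⟨t, tN, tA, t2, ti⟩ := h.exists_inv (he ▸ dvd_rfl)
  have ho := h.odd tA ti
  have t1 : t ≠ 1 := fun e => tA (e ▸ one_mem A)
  -- faithfulness
  have hker : ∀ g, (χ : G → ℂ) g = x → g = 1 := by
    obtain ⟨K, hK, hK', -⟩ := isCharacter_exists_ker χ.2.isCharacter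
    rcases hK.eq_bot_or_eq_top with e | e
    · intro g hg
      rw [← hx, ← hK', e] at hg
      exact hg
    · exfalso
      have hc : ∀ g, (χ : G → ℂ) g = x := fun g => by rw [← hx, ← hK', e]; trivial
      have := χ.2.sum_eq_zero fun e => d1 (Subtype.ext e)
      simp only [hc, Finset.sum_const, nsmul_eq_mul, mul_eq_zero, Nat.cast_eq_zero] at this
      have := Finset.card_pos.2 (Finset.univ_nonempty (α := G))
      omega
  have x2 : 2 ≤ x := by
    by_contra hn
    obtain ⟨lam, hl⟩ := χ.2.isCharacter.exists_linear (by rw [hx, show x = 1 by omega]; simp)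
    refine hG ⟨⟨fun a b => ?_⟩⟩
    have := hker (a * b * (b * a)⁻¹) (by
      rw [hl, show x = 1 by omega]
      simp only [map_mul, map_inv, mul_comm (lam b), mul_inv_cancel]; simp)
    exact mul_inv_eq_one.1 this
  -- the formula
  have key : ∀ z, orderOf z = 2 → ∀ s : ℤ, (χ : G → ℂ) z = s → ∀ m : ℕ,
      (∀ a ∈ A, a ≠ 1 → cnt z a = m) → ((centralizer ({z} : Set G)).index : ℤ) ^ 2 * (x - s) ^ 2 =
        m * Nat.card G * x * (x + c χ) := by
    intro z hz s hzs m hm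
    have nz : ¬ Near A z := fun hn => by
      have := hn.orderOf_dvd
      rw [hz] at this
      exact (Nat.not_even_iff_odd.2 ho) (even_iff_two_dvd.2 this)
    have e1 := hE.inner (fun g => (cnt z g : ℂ)) (fun g x => by simp only [cnt_conj]) m
      fun a ha h1 => by rw [hm a ha h1]
    have e2 := sum_mul_conj_eq ψ fun g => (cnt z g : ℂ)
    have e3 := sum_cnt z ψ
    have f1 := (irrOne G).2.sum_class_mul_inv z z
    have f2 := χ.2.sum_class_mul_inv z z
    have f3 := X.2.sum_class_mul_inv z z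
    rw [hrel z nz, hzs, hy] at f3
    rw [hzs, hx] at f2
    simp only [irrOne, map_one, mul_one, one_mul] at f1
    simp only [hψ, Finset.sum_add_distrib, ← Finset.mul_sum] at e3
    simp only [← hψ, nsmul_eq_mul] at e3
    simp only [e1, Complex.conj_natCast, mul_comm (ψ _)] at e2
    rw [e2, f1, hs.1] at e3
    have hy' : (y : ℂ) = x + c χ := by exact_mod_cast hs.2
    simp only [map_add, map_intCast] at f2 f3
    rw [hy'] at f3
    have : ((((centralizer ({z} : Set G)).index : ℤ) ^ 2 * (x - s) ^ 2 : ℤ) : ℂ) =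
        ((m * Nat.card G * x * (x + c χ) : ℤ) : ℂ) := by
      push_cast at e3 ⊢
      linear_combination (x * (x + c χ) : ℂ) * e3 + (c χ * x : ℂ) * f3 -
        (c χ * (x + c χ) : ℂ) * f2 + (((centralizer ({z} : Set G)).index : ℂ) ^ 2 *
          (2 * s * x + c χ * x - s ^ 2)) * hδ
    exact_mod_cast this
  have hout : ∀ u ∈ normalizer (A : Set G), u ∉ A → u * t⁻¹ ∈ A := fun u hu huA => by
    have := (mul_mem_iff_of_index_two he (a := ⟨u, hu⟩) (b := ⟨t⁻¹, inv_mem tN⟩)).2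
      (iff_of_false huA fun e => tA (inv_mem_iff.1 e))
    exact this
  have hnA : ∀ z u, orderOf z = 2 → IsConj z u → u ∉ A := fun z u hz hu hm => by
    have := Subgroup.orderOf_dvd_natCard A hm
    rw [← orderOf_isConj hu, hz] at this
    exact (Nat.not_even_iff_odd.2 ho) (even_iff_two_dvd.2 this)
  obtain ⟨s, hts⟩ := Euclid.isRat_of_sq t2 χ
  have ht := orderOf_eq_two t2 t1
  refine ⟨χ, c χ, t, x, s, d4, d1, hχE, c1 χ hχE, fun X' hX' g hg => by
    rw [hE.agree _ hX' _ hX g hg, hrel g hg], fun φ h1 h2 h3 a ha h4 => by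
    rw [c1 φ h1 a ha h4, d5 φ h2 (fun e => h1 (e ▸ hX)) h3]; simp, ht, fun z hz => ?_,
    by rw [hx]; simp, hts, by exact_mod_cast x2, ?_, key t ht s hts _ fun a ha h1 => ?_⟩
  · by_contra hn
    obtain ⟨s', hs'⟩ := Euclid.isRat_of_sq (mul_self_of_two hz) χ
    have := key z hz s' hs' 0 fun a ha h1 => by
      refine Finset.card_eq_zero.2 (Finset.filter_eq_empty_iff.2 ?_)
      rintro p - ⟨h2, h3, h4⟩
      have h5 := hout _ (h.mem_of_pair (mul_self_of_two hz) h2 h3 ha h1 h4) (hnA z _ hz h2)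
      have := isConj_mul_of_inverts ho ti h5
      rw [inv_mul_cancel_right] at this
      exact hn (this.trans h2.symm)
    have h0 : ((centralizer ({z} : Set G)).index : ℤ) ≠ 0 := by
      exact_mod_cast index_ne_zero_of_finite
    have h2 : s' = x := by
      simp only [Nat.cast_zero, zero_mul, mul_eq_zero, pow_eq_zero_iff two_ne_zero] at this
      omega
    rw [hker z (by rw [hs', h2]; simp), orderOf_one] at hz
    omega
  · have h2 := isCharacter_norm_le χ.2.isCharacter t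
    rw [hts, hx, Complex.norm_intCast, Complex.norm_natCast] at h2
    have h3 : |s| ≤ x := by exact_mod_cast h2
    refine lt_of_le_of_ne (le_of_abs_le h3) fun e => t1 (hker t (by rw [hts, e]; simp))
  · refine le_antisymm ?_ (le_cnt ho (IsConj.refl t) ti (near_of_mem ha h1))
    rw [Nat.card_eq_fintype_card, Fintype.card_subtype]
    refine Finset.card_le_card_of_injOn (fun p => p.1 * t⁻¹) (fun p hp => ?_)
      (fun p hp q hq e => ?_)
    · obtain ⟨h2, h3, h4⟩ := (Finset.mem_filter.1 hp).2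
      exact Finset.mem_filter.2 ⟨Finset.mem_univ _,
        hout _ (h.mem_of_pair t2 h2 h3 ha h1 h4) (hnA t _ ht h2)⟩
    · have e1 : p.1 = q.1 := mul_right_cancel e
      have e2 := (Finset.mem_filter.1 hp).2.2.2.trans (Finset.mem_filter.1 hq).2.2.2.symm
      rw [e1] at e2
      exact Prod.ext e1 (inv_injective (mul_left_cancel e2))

end Cfsg.Agent.SCS
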