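import Mathlib
import Cfsg.Agent.SCS.Two
import Cfsg.Agent.Char.Nine

/-! Self-centralization systems of type `(2, 4, 4)`: character theory. -/

set_option autoImplicit false
set_option linter.unusedSectionVars false

namespace Cfsg.Agent.SCS

open Cfsg Cfsg.Agent.Char Subgroup
open scoped ComplexConjugate Classical

variable {G : Type*} [Group G] {A B : Subgroup G}

theorem CC.near_of_order [Finite G] (h : CC A) {p : ℕ} (hp : p.Prime) (hd : p ∣ Nat.card A) {y : G}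
    (hy : orderOf y = p) : Near A y := by
  have : Fact p.Prime := ⟨hp⟩
  obtain ⟨a, ha⟩ := exists_prime_orderOf_dvd_card' (G := A) p hd
  have ha' : orderOf (a : G) = p := by rw [orderOf_coe, ha]
  have ne : ∀ g : G, orderOf g = p → g ≠ 1 := fun g hg e => by
    rw [e, orderOf_one] at hg; exact hp.one_lt.ne hg
  have pg : ∀ g : G, orderOf g = p → IsPGroup p (zpowers g) := fun g hg =>
    IsPGroup.of_card (n := 1) (by rw [Nat.card_zpowers, hg, pow_one])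
  obtain ⟨P, hP⟩ := (pg _ ha').exists_le_sylow
  obtain ⟨Q, hQ⟩ := (pg _ hy).exists_le_sylow
  have aP : (a : G) ∈ (P : Subgroup G) := hP (mem_zpowers _)
  have : Nontrivial (P : Subgroup G) := ⟨⟨⟨a, aP⟩, 1, fun e => ne _ ha' (congrArg Subtype.val e)⟩⟩
  have := P.isPGroup'.center_nontrivial
  obtain ⟨z, hz⟩ := exists_ne (1 : center (P : Subgroup G))
  have z1 : ((z : (P : Subgroup G)) : G) ≠ 1 := fun e => hz (Subtype.ext (Subtype.ext e))
  have zc : ∀ g ∈ (P : Subgroup G), g * ((z : (P : Subgroup G)) : G) = (z : (P : Subgroup G)) * g :=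
    fun g hg => congrArg Subtype.val (mem_center_iff.1 z.2 ⟨g, hg⟩)
  have zA := h.mem_of_comm a.2 (ne _ ha') (zc a aP).symm
  obtain ⟨x, rfl⟩ := MulAction.exists_smul_eq G P Q
  have := hQ (mem_zpowers y)
  rw [Sylow.coe_subgroup_smul, mem_pointwise_smul_iff_inv_smul_mem] at this
  refine ⟨_, h.mem_of_comm zA z1 (zc _ this), ne _ ?_, isConj_iff.2 ⟨x, ?_⟩⟩
  · rw [← hy]; exact (MulAut.conj x)⁻¹.orderOf_eq y
  · simp [mul_assoc]

theorem CC.coprime [Finite G] (h : CC A) (h' : CC B) (hd : ∀ g, Near A g → ¬ Near B g) :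
    (Nat.card A).Coprime (Nat.card B) := by
  refine Nat.coprime_of_dvd fun p hp h1 h2 => ?_
  have : Fact p.Prime := ⟨hp⟩
  obtain ⟨a, ha⟩ := exists_prime_orderOf_dvd_card' (G := G) p (h1.trans A.card_subgroup_dvd_card)
  exact hd a (h.near_of_order hp h1 ha) (h'.near_of_order hp h2 ha)

theorem CC.disj (h : CC A) (h' : CC B) (hn : ∀ g : G, A.map (MulAut.conj g).toMonoidHom ≠ B) (g : G)
    (h1 : Near A g) : ¬ Near B g := by
  rintro ⟨b, hb, b1, cb⟩
  obtain ⟨a, ha, a1, ca⟩ := h1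
  obtain ⟨x, rfl⟩ := isConj_iff.1 (ca.trans cb.symm)
  refine hn x (le_antisymm ?_ fun y hy => ⟨x⁻¹ * y * x, h.mem_of_comm ha a1 ?_, by simp [mul_assoc]⟩)
  · rintro _ ⟨y, hy, rfl⟩
    refine h'.mem_of_comm hb b1 ?_
    have := h.comm hy ha
    calc x * y * x⁻¹ * (x * a * x⁻¹) = x * (y * a) * x⁻¹ := by group
      _ = x * (a * y) * x⁻¹ := by rw [this]
      _ = x * a * x⁻¹ * (x * y * x⁻¹) := by group
  · have := h'.comm hy hb
    calc x⁻¹ * y * x * a = x⁻¹ * (y * (x * a * x⁻¹)) * x := by group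
      _ = x⁻¹ * (x * a * x⁻¹ * y) * x := by rw [this]
      _ = _ := by group

theorem CC.card_le_of_nine [Finite G] (h : CC A) (he : A.relIndex (normalizer (A : Set G)) = 4)
    (h9 : Nat.card A = 9) : Nat.card G ≤ 720 := by
  have := Fintype.ofFinite G
  refine Euclid.card_le_of_thirtysix h9 (fun s hs => ?_) h (by rw [card_norm, he, h9])
  by_contra hn
  obtain ⟨f, fN, -, fi⟩ := h.exists_four (by omega) he
  have o9 : orderOf s = 9 := by
    have h1 := Subgroup.orderOf_dvd_natCard A hs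
    rw [h9, show 9 = 3 ^ 2 from rfl, Nat.dvd_prime_pow Nat.prime_three] at h1
    obtain ⟨k, hk, e⟩ := h1
    have := mt orderOf_dvd_iff_pow_eq_one.1 hn
    rw [e] at this ⊢
    interval_cases k <;> simp_all
  have hz : zpowers s = A := eq_of_le_of_card_ge (zpowers_le.2 hs)
    (by rw [Nat.card_zpowers, o9, h9])
  obtain ⟨k, hk⟩ : f * s * f⁻¹ ∈ zpowers s := hz ▸ (fN s).1 hs
  have e1 : s ^ (k * k) = s⁻¹ := by
    rw [← fi s hs, zpow_mul]
    simp only at hk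
    rw [hk, conj_zpow, hk]
    group
  have e2 : s ^ (k * k + 1) = 1 := by rw [zpow_add, e1]; simp
  rw [← orderOf_dvd_iff_zpow_eq_one, o9] at e2
  have : k % 3 = 0 ∨ k % 3 = 1 ∨ k % 3 = 2 := by omega
  have h3 : (k * k + 1) % 3 = 0 := Int.emod_eq_zero_of_dvd (Dvd.dvd.trans (by norm_num) e2)
  rcases this with e | e | e <;> simp [Int.add_emod, Int.mul_emod, e] at h3

variable [Fintype G]

theorem sum_classes_le {D : G → Prop} (hD : ∀ g h, D g → IsConj g h → D h) {T : Finset G}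
    (h1 : ∀ g ∈ T, D g) (h2 : (T : Set G).Pairwise fun a b => ¬ IsConj a b) {f : G → ℕ}
    (hf : ∀ g h, IsConj g h → f g = f h) :
    ∑ g ∈ T, (centralizer ({g} : Set G)).index * f g ≤ ∑ g ∈ Finset.univ.filter D, f g := by
  have e : ∀ g ∈ T, (centralizer ({g} : Set G)).index * f g =
      ∑ h ∈ Finset.univ.filter (IsConj g), f h := fun g _ => by
    rw [Finset.sum_congr rfl (g := fun _ => f g) fun h hh =>
      (hf g h (Finset.mem_filter.1 hh).2).symm, Finset.sum_const, card_filter_isConj, smul_eq_mul]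
  rw [Finset.sum_congr rfl e, ← Finset.sum_biUnion]
  · refine Finset.sum_le_sum_of_subset fun h hh => ?_
    obtain ⟨g, hg, hh⟩ := Finset.mem_biUnion.1 hh
    exact Finset.mem_filter.2 ⟨Finset.mem_univ _, hD g h (h1 g hg) (Finset.mem_filter.1 hh).2⟩
  · intro a ha b hb hab
    refine Finset.disjoint_left.2 fun h h3 h4 => h2 ha hb hab ?_
    exact (Finset.mem_filter.1 h3).2.trans (Finset.mem_filter.1 h4).2.symm

theorem card_cent_isConj {a b : G} (h : IsConj a b) :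
    Nat.card (centralizer ({a} : Set G)) = Nat.card (centralizer ({b} : Set G)) := by
  have e : Finset.univ.filter (IsConj a) = Finset.univ.filter (IsConj b) := by
    ext g; simp only [Finset.mem_filter, Finset.mem_univ, true_and]
    exact ⟨h.symm.trans, h.trans⟩
  have h1 := (centralizer ({a} : Set G)).card_mul_index
  have h2 := (centralizer ({b} : Set G)).card_mul_index
  rw [← card_filter_isConj] at h1 h2
  rw [e, ← h2] at h1
  exact Nat.eq_of_mul_eq_mul_right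
    (Finset.card_pos.2 ⟨b, Finset.mem_filter.2 ⟨Finset.mem_univ _, IsConj.refl b⟩⟩) h1

theorem sum_card_cent : ∑ g : G, Nat.card (centralizer ({g} : Set G)) =
    Nat.card (IrrCharacter G) * Nat.card G := by
  have : ((∑ g : G, Nat.card (centralizer ({g} : Set G)) : ℕ) : ℂ) =
      (Nat.card (IrrCharacter G) * Nat.card G : ℕ) := by
    push_cast
    simp only [← sum_irr_mul_conj_of_isConj (IsConj.refl _)]
    rw [Finset.sum_comm]
    simp only [sum_mul_conj_eq, (Subtype.prop (_ : IrrCharacter G)).inner_self]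
    simp
  exact_mod_cast this

/-- not conjugate to a non-identity element of one of the three subgroups -/
def Far (A₁ A₂ A₃ : Subgroup G) (g : G) : Prop := ¬ Near A₁ g ∧ ¬ Near A₂ g ∧ ¬ Near A₃ g

theorem sum_split (A₁ A₂ A₃ : Subgroup G) (d12 : ∀ g, Near A₁ g → ¬ Near A₂ g)
    (d13 : ∀ g, Near A₁ g → ¬ Near A₃ g) (d23 : ∀ g, Near A₂ g → ¬ Near A₃ g) (f : G → ℕ) :
    ∑ g, f g = ∑ g ∈ Finset.univ.filter (Near A₁), f g + ∑ g ∈ Finset.univ.filter (Near A₂), f g +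
      ∑ g ∈ Finset.univ.filter (Near A₃), f g +
      ∑ g ∈ Finset.univ.filter (Far A₁ A₂ A₃), f g := by
  simp only [Finset.sum_filter, ← Finset.sum_add_distrib]
  refine Finset.sum_congr rfl fun g _ => ?_
  have := d12 g; have := d13 g; have := d23 g
  by_cases h1 : Near A₁ g <;> by_cases h2 : Near A₂ g <;> by_cases h3 : Near A₃ g <;>
    simp_all [Far]

theorem CC.card_cent (h : CC A) {g : G} (hg : Near A g) :
    Nat.card (centralizer ({g} : Set G)) = Nat.card A := by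
  obtain ⟨a, ha, h1, c⟩ := hg
  rw [← card_cent_isConj c, h a ha h1]

theorem exists_mem_ne_one (hA : 1 < Nat.card A) : ∃ a ∈ A, a ≠ 1 := by
  have : Nontrivial A := Finite.one_lt_card_iff_nontrivial.1 hA
  obtain ⟨a, ha⟩ := exists_ne (1 : A)
  exact ⟨a, a.2, fun e => ha (Subtype.ext e)⟩

section
variable {A₁ : Subgroup G} {E₁ E : Finset (IrrCharacter G)} {ψ₁ ψ : G → ℂ} {χ : IrrCharacter G}
  {δ x s : ℤ} {t : G}

theorem Two.not_mem (T : Two A₁ E₁ χ δ t x s) (h₁ : Exc A₁ 2 E₁ ψ₁) (hA : 1 < Nat.card A₁)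
    (h : Exc A 4 E ψ) (h2 : 1 < E.card) (d : ∀ g, Near A₁ g → ¬ Near A g) : χ ∉ E := by
  intro hm
  obtain ⟨Y, hY, hne⟩ := Finset.exists_mem_ne h2 χ
  have hv : ∀ a ∈ A₁, a ≠ 1 → (Y : G → ℂ) a = δ := fun a ha h1 => by
    rw [h.agree _ hY _ hm a (d a (near_of_mem ha h1)), T.val a ha h1]
  obtain ⟨a, ha, h1⟩ := exists_mem_ne_one hA
  have := T.zero Y (fun hm => h₁.nonconst Y hm δ hv) (fun e => h.one_not_mem (e ▸ hY)) hne a ha h1
  rw [hv a ha h1] at this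
  rcases T.hδ with e | e <;> rw [e] at this <;> simp at this

theorem Two.abs_le (T : Two A₁ E₁ χ δ t x s) (h : CC A) (he : 2 ∣ A.relIndex (normalizer (A : Set G)))
    {c : ℤ} (hc : ∀ a ∈ A, a ≠ 1 → (χ : G → ℂ) a = c) :
    Nat.card A * |s| ≤ x + (Nat.card A - 1) * c := by
  obtain ⟨u, uN, uA, u2, ui⟩ := h.exists_inv he
  refine abs_le_of_const (h.odd uA ui) uN ui χ.2.isCharacter T.hx hc ?_
  rw [← T.hs]
  exact (χ.2.isClassFunction.eq_of_isConj
    (T.one u (orderOf_eq_two u2 fun e => uA (e ▸ one_mem A)))).symm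

theorem Two.le_cnt (T : Two A₁ E₁ χ δ t x s) (h : CC A)
    (he : 2 ∣ A.relIndex (normalizer (A : Set G))) :
    Nat.card A * (Finset.univ.filter (Near A)).card ≤
      ∑ g ∈ Finset.univ.filter (Near A), cnt t g := by
  obtain ⟨u, uN, uA, u2, ui⟩ := h.exists_inv he
  rw [mul_comm, ← smul_eq_mul, ← Finset.sum_const]
  exact Finset.sum_le_sum fun g hg => SCS.le_cnt (h.odd uA ui)
    (T.one u (orderOf_eq_two u2 fun e => uA (e ▸ one_mem A))) ui (Finset.mem_filter.1 hg).2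

end

theorem arith_small {n m n₁ x s c δ : ℤ} (hn : 17 ≤ n) (hm : 30 ≤ m) (h1 : 5 ≤ n₁) (h7 : n₁ ≤ 7)
    (hc : c ^ 2 ≤ 3) (hd : n ∣ x - c) (x2 : 2 ≤ x) (hs : n * |s| ≤ x + (n - 1) * c)
    (hδ : δ = 1 ∨ δ = -1) (h : (2 * n₁ + m - 4) * (x - s) ^ 2 < 4 * n₁ * x * (x + δ)) : False := by
  have c1 : c ≤ 1 := by nlinarith
  have c2 : -1 ≤ c := by nlinarith
  have x16 : 16 ≤ x := by
    have := Int.le_of_dvd (by omega) hd
    omega
  have h2 : 17 * s ≤ x + 16 := by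
    have := le_abs_self s
    rcases le_or_gt s 1 with h0 | h0
    · omega
    · nlinarith
  have h3 : (16 * (x - 1)) ^ 2 ≤ (17 * (x - s)) ^ 2 := by
    apply pow_le_pow_left₀ <;> omega
  have h4 : 10 * (x - s) ^ 2 < 7 * x * (x + 1) := by
    have a1 : 4 * n₁ * x * (x + δ) ≤ 4 * n₁ * x * (x + 1) := by
      apply mul_le_mul_of_nonneg_left <;> [omega; positivity]
    have a2 : (2 * n₁ + 26) * (x - s) ^ 2 ≤ (2 * n₁ + m - 4) * (x - s) ^ 2 := by
      apply mul_le_mul_of_nonneg_right <;> [omega; positivity]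
    have a3 : 0 ≤ (x - s) ^ 2 := sq_nonneg _
    have a4 : 0 ≤ x * (x + 1) := by positivity
    interval_cases n₁ <;> nlinarith
  nlinarith

/-- a self-centralization system of type `(2, 4, 4)` -/
structure Sys (A₁ A₂ A₃ : Subgroup G) : Prop where
  c1 : CC A₁
  c2 : CC A₂
  c3 : CC A₃
  e1 : A₁.relIndex (normalizer (A₁ : Set G)) = 2
  e2 : A₂.relIndex (normalizer (A₂ : Set G)) = 4
  e3 : A₃.relIndex (normalizer (A₃ : Set G)) = 4
  n1 : 5 ≤ Nat.card A₁
  n2 : 5 < Nat.card A₂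
  n3 : 5 < Nat.card A₃
  d12 : ∀ g, Near A₁ g → ¬ Near A₂ g
  d13 : ∀ g, Near A₁ g → ¬ Near A₃ g
  d23 : ∀ g, Near A₂ g → ¬ Near A₃ g

variable {A₁ A₂ A₃ : Subgroup G}

theorem Sys.symm (S : Sys A₁ A₂ A₃) : Sys A₁ A₃ A₂ :=
  ⟨S.c1, S.c3, S.c2, S.e1, S.e3, S.e2, S.n1, S.n3, S.n2, S.d13, S.d12,
    fun g h h' => S.d23 g h' h⟩

theorem Sys.dvd (S : Sys A₁ A₂ A₃) : Nat.card A₁ * Nat.card A₂ * Nat.card A₃ ∣ Nat.card G :=
  Nat.Coprime.mul_dvd_of_dvd_of_dvd
    (Nat.Coprime.mul_left (S.c1.coprime S.c3 S.d13) (S.c2.coprime S.c3 S.d23))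
    (Nat.Coprime.mul_dvd_of_dvd_of_dvd (S.c1.coprime S.c2 S.d12) A₁.card_subgroup_dvd_card
      A₂.card_subgroup_dvd_card) A₃.card_subgroup_dvd_card

theorem Sys.thirteen (S : Sys A₁ A₂ A₃) : 13 ≤ Nat.card A₂ := by
  obtain ⟨E₁, ψ₁, h₁⟩ := S.c1.exists_exc S.e1 (by have := S.n1; omega)
  obtain ⟨E₂, ψ₂, h₂⟩ := S.c2.exists_exc S.e2 S.n2
  obtain ⟨E₃, ψ₃, h₃⟩ := S.c3.exists_exc S.e3 S.n3
  have a1 := h₁.card; have a2 := h₂.card; have a3 := h₃.card
  have := S.n1; have := S.n2; have := S.n3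
  by_contra hn
  have h9 : Nat.card A₂ = 9 := by omega
  have b1 := S.c2.card_le_of_nine S.e2 h9
  have b2 : Nat.card A₃ ≠ 9 := fun e => by
    have := S.c2.coprime S.c3 S.d23
    rw [h9, e] at this; norm_num at this
  obtain ⟨f, -, hf, -⟩ := S.c2.exists_four (by omega) S.e2
  have b3 : 4 ∣ Nat.card G := hf ▸ orderOf_dvd_natCard f
  have b4 : Odd (Nat.card A₁ * Nat.card A₂ * Nat.card A₃) :=
    Nat.odd_mul.2 ⟨Nat.odd_mul.2 ⟨⟨E₁.card, by omega⟩, ⟨4, by omega⟩⟩, ⟨2 * E₃.card, by omega⟩⟩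
  have b5 := Nat.le_of_dvd Nat.card_pos (Nat.Coprime.mul_dvd_of_dvd_of_dvd
    (Nat.Coprime.pow_left 2 (Nat.coprime_two_left.2 b4)) b3 S.dvd)
  have b6 : 5 * 13 ≤ Nat.card A₁ * Nat.card A₃ := Nat.mul_le_mul S.n1 (by omega)
  rw [h9] at b5
  nlinarith

theorem Sys.real (S : Sys A₁ A₂ A₃) {E₁ : Finset (IrrCharacter G)} {χ : IrrCharacter G}
    {δ x s : ℤ} {t : G} (T : Two A₁ E₁ χ δ t x s) :
    (2 * Nat.card A₁ + (Nat.card A₂ + Nat.card A₃) - 4) * (x - s) ^ 2 <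
      4 * Nat.card A₁ * x * (x + δ) := by
  have h1 := sum_cnt t fun _ => (1 : ℕ)
  simp only [Finset.sum_const, card_filter_isConj, smul_eq_mul, mul_one] at h1
  rw [sum_split A₁ A₂ A₃ S.d12 S.d13 S.d23] at h1
  have a1 := T.le_cnt S.c1 (by rw [S.e1])
  have a2 := T.le_cnt S.c2 (by rw [S.e2]; norm_num)
  have a3 := T.le_cnt S.c3 (by rw [S.e3]; norm_num)
  have a4 : 1 ≤ ∑ g ∈ Finset.univ.filter (Far A₁ A₂ A₃), cnt t g := by
    refine le_trans ?_ (Finset.single_le_sum (f := cnt t) (a := 1) (fun _ _ => Nat.zero_le _)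
      (by simp [Far, not_near_one]))
    exact Finset.card_pos.2 ⟨(t, t), Finset.mem_filter.2
      ⟨Finset.mem_univ _, IsConj.refl t, IsConj.refl t, mul_inv_cancel t⟩⟩
  have b1 := S.c1.card_near; have b2 := S.c2.card_near; have b3 := S.c3.card_near
  rw [card_norm] at b1 b2 b3
  rw [S.e1] at b1; rw [S.e2] at b2; rw [S.e3] at b3
  have f := T.formula
  have hg : (0 : ℤ) < Nat.card G := by exact_mod_cast Nat.card_pos
  have k : (2 * Nat.card A₁ + (Nat.card A₂ + Nat.card A₃) - 4 : ℤ) * Nat.card G <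
      4 * ((centralizer ({t} : Set G)).index : ℤ) ^ 2 := by
    zify at h1 a1 a2 a3 a4 b1 b2 b3
    nlinarith
  have hp : 0 < (x - s) ^ 2 := pow_pos (sub_pos.2 T.lt) 2
  refine lt_of_mul_lt_mul_right ?_ hg.le
  nlinarith

set_option maxHeartbeats 1600000 in
theorem Sys.main [IsSimpleGroup G] (hG : ¬ IsMulCommutative G) (S : Sys A₁ A₂ A₃)
    (hord : Nat.card G ≤ 3 * Nat.card A₁ ^ 2 * Nat.card A₂ ^ 2 * Nat.card A₃ ^ 2) :
    ∃ E χ δ t x s, Two A₁ E χ δ t x s ∧ 9 ≤ Nat.card A₁ ∧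
      (Nat.card A₂ * Nat.card A₃ : ℤ) ∣ x + δ ∧
      ∀ T : Finset G, (∀ g ∈ T, Far A₁ A₂ A₃ g) →
        (T : Set G).Pairwise (fun a b => ¬ IsConj a b) →
        T.card ≤ 6 ∧ 11 * ∑ g ∈ T, (centralizer ({g} : Set G)).index < Nat.card G := by
  obtain ⟨E₁, ψ₁, h₁⟩ := S.c1.exists_exc S.e1 (by have := S.n1; omega)
  obtain ⟨E₂, ψ₂, h₂⟩ := S.c2.exists_exc S.e2 S.n2
  obtain ⟨E₃, ψ₃, h₃⟩ := S.c3.exists_exc S.e3 S.n3
  have a1 := h₁.card; have a2 := h₂.card; have a3 := h₃.card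
  have n1 := S.n1; have n2 := S.thirteen; have n3 := S.symm.thirteen
  have co := S.c2.coprime S.c3 S.d23
  have n23 : Nat.card A₂ ≠ Nat.card A₃ := fun e => by
    rw [e, Nat.coprime_self] at co; omega
  obtain ⟨χ, δ, t, x, s, T⟩ := S.c1.exists_two hG S.e1 h₁
  obtain ⟨c₂, v₂, o₂, s₂⟩ := h₂.exists_val
  obtain ⟨c₃, v₃, o₃, s₃⟩ := h₃.exists_val
  have χ₂ := T.not_mem h₁ (by omega) h₂ (by omega) S.d12
  have χ₃ := T.not_mem h₁ (by omega) h₃ (by omega) S.d13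
  have n9 : 9 ≤ Nat.card A₁ := by
    by_contra hn
    have r := S.real T
    have q₂ := s₂ {irrOne G, χ} (by simp [h₂.one_not_mem, χ₂])
    have q₃ := s₃ {irrOne G, χ} (by simp [h₃.one_not_mem, χ₃])
    rw [Finset.sum_pair T.ne.symm] at q₂ q₃
    rcases le_or_gt 17 (Nat.card A₂) with h | h
    · exact arith_small (n := Nat.card A₂) (c := c₂ χ) (by omega) (by omega) (by omega) (by omega)
        (by rw [o₂] at q₂; omega) (dvd_of_const χ.2.isCharacter T.hx (v₂ χ χ₂)) T.x2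
        (T.abs_le S.c2 (by rw [S.e2]; norm_num) (v₂ χ χ₂)) T.hδ r
    · exact arith_small (n := Nat.card A₃) (c := c₃ χ) (by omega) (by omega) (by omega) (by omega)
        (by rw [o₃] at q₃; omega) (dvd_of_const χ.2.isCharacter T.hx (v₃ χ χ₃)) T.x2
        (T.abs_le S.c3 (by rw [S.e3]; norm_num) (v₃ χ χ₃)) T.hδ r
  -- values of `χ` and of the exceptional characters of `A₁`
  have kv : ∀ {A : Subgroup G} {E : Finset (IrrCharacter G)} {ψ : G → ℂ} (_ : Exc A 4 E ψ)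
      (_ : 1 < Nat.card A) (_ : ∀ g, Near A₁ g → ¬ Near A g) (_ : χ ∉ E) (c : IrrCharacter G → ℤ)
      (_ : ∀ φ ∉ E, ∀ a ∈ A, a ≠ 1 → (φ : G → ℂ) a = c φ) (_ : c (irrOne G) = 1)
      (_ : ∀ S : Finset (IrrCharacter G), (∀ φ ∈ S, φ ∉ E) → ∑ φ ∈ S, c φ ^ 2 ≤ (4 : ℕ)),
      c χ = -δ ∧ ∀ X ∈ E₁, X ∉ E ∧ c X = 0 := by
    intro A E ψ h hA d hχ c v o s'
    obtain ⟨a, ha, h1⟩ := exists_mem_ne_one hA
    have k1 : ∀ X ∈ E₁, X ∉ E := fun X hX => h₁.not_mem h (by omega) d hX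
    have k2 : ∀ X ∈ E₁, c X = c χ + δ := fun X hX => by
      have := T.rel X hX a fun hn => d a hn (near_of_mem ha h1)
      rw [v X (k1 X hX) a ha h1, v χ hχ a ha h1] at this
      exact_mod_cast this
    have := s' (insert (irrOne G) E₁) (by
      intro φ hφ
      rcases Finset.mem_insert.1 hφ with rfl | hφ
      exacts [h.one_not_mem, k1 φ hφ])
    rw [Finset.sum_insert h₁.one_not_mem, o, Finset.sum_congr rfl fun X hX => by rw [k2 X hX],
      Finset.sum_const, nsmul_eq_mul] at this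
    have k3 : c χ + δ = 0 := by
      by_contra hn
      have b1 : 0 < (c χ + δ) ^ 2 := by positivity
      have b2 : (4 : ℤ) ≤ E₁.card := by omega
      push_cast at this
      nlinarith
    exact ⟨by omega, fun X hX => ⟨k1 X hX, by rw [k2 X hX, k3]⟩⟩
  obtain ⟨w₂, -⟩ := kv h₂ (by omega) S.d12 χ₂ c₂ v₂ o₂ s₂
  obtain ⟨w₃, -⟩ := kv h₃ (by omega) S.d13 χ₃ c₃ v₃ o₃ s₃
  have δ2 : δ ^ 2 = 1 := by rcases T.hδ with e | e <;> rw [e] <;> rfl
  -- exceptional characters of `A₂` vanish on `A₃`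
  have kz : ∀ {A B : Subgroup G} {E E' : Finset (IrrCharacter G)} {ψ ψ' : G → ℂ} (_ : Exc A 4 E ψ)
      (_ : Exc B 4 E' ψ') (_ : 2 < E.card) (_ : 1 < Nat.card B) (_ : ∀ g, Near A g → ¬ Near B g)
      (_ : χ ∉ E) (_ : χ ∉ E') (c : IrrCharacter G → ℤ)
      (_ : ∀ φ ∉ E', ∀ a ∈ B, a ≠ 1 → (φ : G → ℂ) a = c φ) (_ : c (irrOne G) = 1)
      (_ : c χ = -δ)
      (_ : ∀ S : Finset (IrrCharacter G), (∀ φ ∈ S, φ ∉ E') → ∑ φ ∈ S, c φ ^ 2 ≤ (4 : ℕ)),
      ∀ Y ∈ E, Y ∉ E' ∧ c Y = 0 := by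
    intro A B E E' ψ ψ' h h' hE hB d hχ hχ' c v o w s' Y hY
    obtain ⟨a, ha, h1⟩ := exists_mem_ne_one hB
    have k1 : ∀ X ∈ E, X ∉ E' := fun X hX => h.not_mem h' (by omega) d hX
    have k2 : ∀ X ∈ E, c X = c Y := fun X hX => by
      have := h.agree X hX Y hY a fun hn => d a hn (near_of_mem ha h1)
      rw [v X (k1 X hX) a ha h1, v Y (k1 Y hY) a ha h1] at this
      exact_mod_cast this
    have := s' (insert (irrOne G) (insert χ E)) (by
      intro φ hφ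
      simp only [Finset.mem_insert] at hφ
      rcases hφ with rfl | rfl | hφ
      exacts [h'.one_not_mem, hχ', k1 φ hφ])
    rw [Finset.sum_insert (by simp [h.one_not_mem, T.ne.symm]), Finset.sum_insert hχ, o, w,
      Finset.sum_congr rfl fun X hX => by rw [k2 X hX], Finset.sum_const, nsmul_eq_mul] at this
    refine ⟨k1 Y hY, by_contra fun hn => ?_⟩
    have b1 : 0 < c Y ^ 2 := by positivity
    have b2 : (3 : ℤ) ≤ E.card := by omega
    push_cast at this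
    nlinarith
  have z₂ := kz h₂ h₃ (by omega) (by omega) S.d23 χ₂ χ₃ c₃ v₃ o₃ w₃ s₃
  have z₃ := kz h₃ h₂ (by omega) (by omega) S.symm.d23 χ₃ χ₂ c₂ v₂ o₂ w₂ s₂
  obtain ⟨a₂, ha₂, a₂1⟩ := exists_mem_ne_one (A := A₂) (by omega)
  obtain ⟨a₃, ha₃, a₃1⟩ := exists_mem_ne_one (A := A₃) (by omega)
  set U : Finset (IrrCharacter G) := (((Finset.univ \ E₂) \ E₃).erase (irrOne G)).erase χ with hU
  have mU : ∀ φ, φ ∈ U ↔ φ ≠ χ ∧ φ ≠ irrOne G ∧ φ ∉ E₂ ∧ φ ∉ E₃ := fun φ => by simp [hU]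
  have sU : ∀ f : IrrCharacter G → ℤ, ∑ φ ∈ (Finset.univ \ E₂) \ E₃, f φ =
      f (irrOne G) + f χ + ∑ φ ∈ U, f φ := fun f => by
    rw [add_assoc, hU, Finset.add_sum_erase _ _ (by simp [T.ne, χ₂, χ₃]),
      Finset.add_sum_erase _ _ (by simp [h₂.one_not_mem, h₃.one_not_mem])]
  have orth : ∑ φ ∈ (Finset.univ \ E₂) \ E₃, c₂ φ * c₃ φ = 0 := by
    have := sum_irr_mul_conj_of_not_isConj (g := a₂) (h := a₃) fun c =>
      S.d23 a₃ ⟨a₂, ha₂, a₂1, c⟩ (near_of_mem ha₃ a₃1)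
    rw [← Finset.sum_subset (Finset.subset_univ ((Finset.univ \ E₂) \ E₃)) (fun φ _ hφ => by
      by_cases b : φ ∈ E₂
      · rw [v₃ φ (z₂ φ b).1 a₃ ha₃ a₃1, (z₂ φ b).2]; simp
      · have b' : φ ∈ E₃ := by simpa [b] using hφ
        rw [v₂ φ b a₂ ha₂ a₂1, (z₃ φ b').2]; simp),
      Finset.sum_congr rfl (g := fun φ => ((c₂ φ * c₃ φ : ℤ) : ℂ)) fun φ hφ => by
        simp only [Finset.mem_sdiff] at hφ
        rw [v₂ φ hφ.1.2 a₂ ha₂ a₂1, v₃ φ hφ.2 a₃ ha₃ a₃1]; simp] at this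
    exact_mod_cast this
  have q₂ := s₂ ((Finset.univ \ E₂) \ E₃) (by simp +contextual)
  have q₃ := s₃ ((Finset.univ \ E₂) \ E₃) (by simp)
  rw [sU] at orth q₂ q₃
  simp only [o₂, o₃, w₂, w₃] at orth q₂ q₃
  have neg : ∀ φ ∈ U, c₂ φ + c₃ φ = 0 := by
    have : ∑ φ ∈ U, (c₂ φ + c₃ φ) ^ 2 = ∑ φ ∈ U, c₂ φ ^ 2 + ∑ φ ∈ U, c₃ φ ^ 2 +
        2 * ∑ φ ∈ U, c₂ φ * c₃ φ := by
      rw [Finset.mul_sum, ← Finset.sum_add_distrib, ← Finset.sum_add_distrib]
      exact Finset.sum_congr rfl fun _ _ => by ring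
    have h0 : ∑ φ ∈ U, (c₂ φ + c₃ φ) ^ 2 = 0 := le_antisymm (by push_cast at q₂ q₃; nlinarith)
      (Finset.sum_nonneg fun _ _ => sq_nonneg _)
    intro φ hφ
    exact pow_eq_zero_iff two_ne_zero |>.1
      ((Finset.sum_eq_zero_iff_of_nonneg fun _ _ => sq_nonneg _).1 h0 φ hφ)
  have cB : (U.filter fun φ => c₂ φ ≠ 0).card ≤ 2 := by
    have b1 : ∑ φ ∈ U.filter fun φ => c₂ φ ≠ 0, (1 : ℤ) ≤ ∑ φ ∈ U, c₂ φ ^ 2 :=
      (Finset.sum_le_sum fun φ hφ => by
        have : 0 < c₂ φ ^ 2 := by have := (Finset.mem_filter.1 hφ).2; positivity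
        omega).trans (Finset.sum_le_sum_of_subset_of_nonneg (Finset.filter_subset _ _)
          fun _ _ _ => sq_nonneg _)
    simp only [Finset.sum_const, nsmul_eq_mul, mul_one] at b1
    push_cast at q₂
    nlinarith
  have cR : ((U.filter fun φ => c₂ φ = 0) \ E₁).card ≤ 2 := by
    set R := (U.filter fun φ => c₂ φ = 0) \ E₁
    have b1 : ∀ φ ∈ R, ((Nat.card A₁ * Nat.card A₂ * Nat.card A₃ : ℕ) : ℤ) ^ 2 ≤
        Euclid.iv φ 1 ^ 2 := fun φ hφ => by
      obtain ⟨hφ, b2⟩ := Finset.mem_sdiff.1 hφ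
      obtain ⟨hφ, b3⟩ := Finset.mem_filter.1 hφ
      have b4 := neg φ hφ
      obtain ⟨m1, m2, m3, m4⟩ := (mU φ).1 hφ
      have hx := Euclid.isRat_one.cast φ
      have k1 := dvd_of_const (A := A₁) (c := 0) φ.2.isCharacter hx
        fun a ha h1 => by rw [T.zero φ b2 m2 m1 a ha h1]; simp
      have k2 := dvd_of_const φ.2.isCharacter hx (v₂ φ m3)
      have k3 := dvd_of_const φ.2.isCharacter hx (v₃ φ m4)
      rw [show c₃ φ = 0 by omega] at k3
      rw [b3] at k2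
      rw [sub_zero] at k1 k2 k3
      have hp := Euclid.iv_one_pos φ
      refine pow_le_pow_left₀ (by positivity) (Int.le_of_dvd hp ?_) 2
      rw [Int.natCast_dvd] at k1 k2 k3 ⊢
      exact Nat.Coprime.mul_dvd_of_dvd_of_dvd
        (Nat.Coprime.mul_left (S.c1.coprime S.c3 S.d13) co)
        (Nat.Coprime.mul_dvd_of_dvd_of_dvd (S.c1.coprime S.c2 S.d12) k1 k2) k3
    have b2 := Finset.card_nsmul_le_sum R _ _ b1
    have b3 : ∑ φ ∈ insert (irrOne G) R, Euclid.iv φ 1 ^ 2 ≤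
        ∑ φ : IrrCharacter G, Euclid.iv φ 1 ^ 2 :=
      Finset.sum_le_sum_of_subset_of_nonneg (Finset.subset_univ _) fun _ _ _ => sq_nonneg _
    rw [Finset.sum_insert (by simp [R, mU]), Euclid.sum_iv_one_sq, Euclid.iv_irrOne] at b3
    by_contra hn
    have b4 : (3 : ℤ) ≤ R.card := by omega
    have b5 : (Nat.card G : ℤ) ≤ 3 * ((Nat.card A₁ * Nat.card A₂ * Nat.card A₃ : ℕ) : ℤ) ^ 2 := by
      have : Nat.card G ≤ 3 * (Nat.card A₁ * Nat.card A₂ * Nat.card A₃) ^ 2 := by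
        rw [mul_pow, mul_pow]; simpa only [mul_assoc] using hord
      exact_mod_cast this
    rw [nsmul_eq_mul] at b2
    nlinarith [sq_nonneg ((Nat.card A₁ * Nat.card A₂ * Nat.card A₃ : ℕ) : ℤ)]
  have cI : Nat.card (IrrCharacter G) ≤ E₁.card + E₂.card + E₃.card + 6 := by
    have : (Finset.univ : Finset (IrrCharacter G)) ⊆ E₁ ∪ E₂ ∪ E₃ ∪ {irrOne G, χ} ∪
        (U.filter fun φ => c₂ φ ≠ 0) ∪ ((U.filter fun φ => c₂ φ = 0) \ E₁) := fun φ _ => by
      simp only [Finset.mem_union, Finset.mem_filter, Finset.mem_sdiff, mU, Finset.mem_insert,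
        Finset.mem_singleton]
      by_cases k1 : φ ∈ E₁ <;> by_cases k2 : φ ∈ E₂ <;> by_cases k3 : φ ∈ E₃ <;>
        by_cases k4 : φ = χ <;> by_cases k5 : φ = irrOne G <;> by_cases k6 : c₂ φ = 0 <;>
        simp only [k1, k2, k3, k4, k5, k6, ne_eq, not_true, not_false_iff, true_or, or_true,
          and_self, false_or, and_true]
    have b := Finset.card_le_card this
    rw [Finset.card_univ, ← Nat.card_eq_fintype_card] at b
    have u1 := Finset.card_union_le E₁ E₂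
    have u2 := Finset.card_union_le (E₁ ∪ E₂) E₃
    have u3 := Finset.card_union_le (E₁ ∪ E₂ ∪ E₃) {irrOne G, χ}
    have u4 := Finset.card_union_le (E₁ ∪ E₂ ∪ E₃ ∪ {irrOne G, χ}) (U.filter fun φ => c₂ φ ≠ 0)
    have u5 := Finset.card_union_le (E₁ ∪ E₂ ∪ E₃ ∪ {irrOne G, χ} ∪ (U.filter fun φ => c₂ φ ≠ 0))
      ((U.filter fun φ => c₂ φ = 0) \ E₁)
    have u6 := Finset.card_le_two (a := irrOne G) (b := χ)
    omega
  have b1 := S.c1.card_near; have b2 := S.c2.card_near; have b3 := S.c3.card_near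
  rw [card_norm] at b1 b2 b3
  rw [S.e1] at b1; rw [S.e2] at b2; rw [S.e3] at b3
  have hg : 0 < Nat.card G := Nat.card_pos
  refine ⟨E₁, χ, δ, t, x, s, T, n9, ?_, fun W w1 w2 => ⟨?_, ?_⟩⟩
  · have k2 := dvd_of_const χ.2.isCharacter T.hx (v₂ χ χ₂)
    have k3 := dvd_of_const χ.2.isCharacter T.hx (v₃ χ χ₃)
    rw [w₂, sub_neg_eq_add] at k2
    rw [w₃, sub_neg_eq_add] at k3
    exact IsCoprime.mul_dvd (Nat.isCoprime_iff_coprime.2 co) k2 k3
  all_goals have hD : ∀ g h : G, Far A₁ A₂ A₃ g → IsConj g h → Far A₁ A₂ A₃ h := fun g h hg c =>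
    ⟨fun e => hg.1 (e.of_isConj c.symm), fun e => hg.2.1 (e.of_isConj c.symm),
      fun e => hg.2.2 (e.of_isConj c.symm)⟩
  · have k1 := sum_classes_le hD w1 w2 (f := fun g => Nat.card (centralizer ({g} : Set G)))
      fun g h => card_cent_isConj
    simp only [index_mul_card, Finset.sum_const, smul_eq_mul] at k1
    have k2 := sum_card_cent (G := G)
    rw [sum_split A₁ A₂ A₃ S.d12 S.d13 S.d23,
      Finset.sum_congr rfl fun g hg => S.c1.card_cent (Finset.mem_filter.1 hg).2,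
      Finset.sum_congr rfl fun g hg => S.c2.card_cent (Finset.mem_filter.1 hg).2,
      Finset.sum_congr rfl fun g hg => S.c3.card_cent (Finset.mem_filter.1 hg).2,
      Finset.sum_const, Finset.sum_const, Finset.sum_const, smul_eq_mul, smul_eq_mul,
      smul_eq_mul] at k2
    replace k2 : (Finset.univ.filter (Near A₁)).card * Nat.card A₁ +
      (Finset.univ.filter (Near A₂)).card * Nat.card A₂ +
      (Finset.univ.filter (Near A₃)).card * Nat.card A₃ + _ = _ := k2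
    have k3 := Nat.mul_le_mul_right (Nat.card G) cI
    refine Nat.le_of_mul_le_mul_right ?_ hg
    rw [← a1] at b1 k2; rw [← a2] at b2 k2; rw [← a3] at b3 k2
    linarith
  · have k1 := sum_classes_le hD w1 w2 (f := fun _ => 1) fun _ _ _ => rfl
    have k2 := sum_split A₁ A₂ A₃ S.d12 S.d13 S.d23 fun _ => 1
    simp only [mul_one] at k1
    rw [← Finset.card_eq_sum_ones] at k1
    rw [← Finset.card_eq_sum_ones, ← Finset.card_eq_sum_ones, ← Finset.card_eq_sum_ones,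
      ← Finset.card_eq_sum_ones, ← Finset.card_eq_sum_ones, Finset.card_univ,
      ← Nat.card_eq_fintype_card] at k2
    refine lt_of_le_of_lt (Nat.mul_le_mul_left 11 k1) ?_
    have kk : ∀ {e n N m : ℕ}, e * n * N + Nat.card G = Nat.card G * n → 1 ≤ m → m ≤ n →
        Nat.card G * (m - 1) ≤ e * m * N := by
      intro e n N m h h1 h2
      obtain ⟨m, rfl⟩ := Nat.exists_eq_add_of_le' h1
      obtain ⟨r, rfl⟩ := Nat.exists_eq_add_of_le h2
      rw [Nat.add_sub_cancel]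
      refine Nat.le_of_mul_le_mul_right ?_ (show 0 < m + 1 + r by omega)
      nlinarith [Nat.zero_le (Nat.card G * r)]
    have l1 := kk b1 (m := 9) (by omega) n9
    rcases le_or_gt 17 (Nat.card A₂) with h | h
    · have l2 := kk b2 (m := 17) (by omega) h
      have l3 := kk b3 (m := 13) (by omega) n3
      omega
    · have l2 := kk b2 (m := 13) (by omega) n2
      have l3 := kk b3 (m := 17) (by omega) (by omega)
      omega

end Cfsg.Agent.SCS
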