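import Cfsg.Agent.SCS.Abs
import Cfsg.Agent.SCS.Three
import Cfsg.Agent.CIT.Defs

/-! A set of at most six small classes, closed under commuting and containing the involutions:
the centralizers of involutions are `2`-groups. -/

set_option autoImplicit false
set_option linter.unusedSectionVars false

namespace Cfsg.Agent.SCS

open Cfsg Cfsg.Agent.Char Cfsg.Agent.Grp Subgroup

variable {G : Type*} [Group G]

theorem parts {p : ℕ} (hp : Odd p) {u z u' z' g : G} (hu : u ^ 4 = 1) (hz : z ^ p = 1)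
    (hu' : u' ^ 4 = 1) (hz' : z' ^ p = 1) (c : Commute u z) (c' : Commute u' z')
    (e : g * (u * z) * g⁻¹ = u' * z') : g * u * g⁻¹ = u' ∧ g * z * g⁻¹ = z' := by
  obtain ⟨k, hk⟩ : ∃ k, p * p = 4 * k + 1 := by
    obtain ⟨k, rfl⟩ := hp
    exact ⟨k * k + k, by ring⟩
  have h : ∀ u z : G, u ^ 4 = 1 → z ^ p = 1 → Commute u z → (u * z) ^ (p * p) = u :=
    fun u z hu hz c => by
      rw [c.mul_pow, pow_mul z, hz, one_pow, mul_one, hk, pow_succ, pow_mul, hu, one_pow, one_mul]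
  have e1 : g * u * g⁻¹ = u' := by
    rw [← h u' z' hu' hz' c', ← e, conj_pow, h u z hu hz c]
  refine ⟨e1, mul_left_cancel (a := u') ?_⟩
  rw [← e, ← e1]; group

theorem pow_four {u : G} (h : orderOf u = 2 ∨ orderOf u = 4) : u ^ 4 = 1 :=
  orderOf_dvd_iff_pow_eq_one.1 (by rcases h with h | h <;> rw [h]; norm_num)

theorem cent_mul {p : ℕ} (hp : Odd p) {u z : G} (hu : u ^ 4 = 1) (hz : z ^ p = 1)
    (c : Commute u z) : centralizer ({u * z} : Set G) = centralizer {u} ⊓ centralizer {z} := by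
  ext g
  rw [mem_inf, mem_centralizer_singleton_iff, mem_centralizer_singleton_iff,
    mem_centralizer_singleton_iff, ← mul_inv_eq_iff_eq_mul, ← mul_inv_eq_iff_eq_mul (a := g * u),
    ← mul_inv_eq_iff_eq_mul (a := g * z)]
  refine ⟨parts hp hu hz hu hz c c, fun h => ?_⟩
  calc g * (u * z) * g⁻¹ = (g * u * g⁻¹) * (g * z * g⁻¹) := by group
    _ = u * z := by rw [h.1, h.2]

theorem isConj_sub {H : Subgroup G} {u v : H} {g : G} (hg : g ∈ H) (e : g * u * g⁻¹ = v) :
    IsConj u v := isConj_iff.2 ⟨⟨g, hg⟩, Subtype.ext e⟩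

theorem mem_cent {g y : G} : g ∈ centralizer ({y} : Set G) ↔ Commute g y :=
  mem_centralizer_singleton_iff

theorem mem_cent_of_conj {g y : G} (e : g * y * g⁻¹ = y) : g ∈ centralizer ({y} : Set G) :=
  mem_centralizer_singleton_iff.2 (mul_inv_eq_iff_eq_mul.1 e)

theorem eq_two_pow_mul {n p : ℕ} (hn : n ≠ 0) (h : ∀ r, r.Prime → r ∣ n → r = 2 ∨ r = p) :
    ∃ a b, n = 2 ^ a * p ^ b := by
  obtain ⟨a, m, hm, rfl⟩ := Nat.exists_eq_two_pow_mul_odd hn
  refine ⟨a, _, congrArg _ (Nat.eq_prime_pow_of_unique_prime_dvd hm.pos.ne' fun {r} hr d =>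
    (h r hr (d.mul_left _)).resolve_left ?_)⟩
  rintro rfl
  exact hm.not_two_dvd_nat d

theorem dvd_mix {m p a b a' b' : ℕ} (hp : Odd p) (h : m ∣ 2 ^ a * p ^ b) (h' : m ∣ 2 ^ a' * p ^ b') :
    m ∣ 2 ^ a * p ^ b' := by
  obtain ⟨m₁, m₂, h1, h2, rfl⟩ := Nat.dvd_mul.1 h
  refine Nat.mul_dvd_mul h1 (Nat.Coprime.dvd_of_dvd_mul_left ?_ ((dvd_mul_left _ _).trans h'))
  exact (Nat.Coprime.pow b a' (Nat.coprime_two_right.2 hp)).coprime_dvd_left h2

variable [Finite G]

theorem ab_sub {p : ℕ} (h : ∀ P : Sylow p G, IsMulCommutative (P : Subgroup G)) (H : Subgroup G)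
    (P : Sylow p H) : IsMulCommutative (P : Subgroup H) := by
  obtain ⟨Q, hQ⟩ := (P.isPGroup'.map H.subtype).exists_le_sylow
  have := h Q
  exact ⟨⟨fun a b => Subtype.ext (Subtype.ext
    (setLike_mul_comm (hQ ⟨a, a.2, rfl⟩) (hQ ⟨b, b.2, rfl⟩)))⟩⟩

theorem card_cent_isConj' {a b : G} (h : IsConj a b) :
    Nat.card (centralizer ({a} : Set G)) = Nat.card (centralizer ({b} : Set G)) :=
  have := Fintype.ofFinite G
  card_cent_isConj h

/-- the data -/
structure Dat (D : G → Prop) : Prop where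
  comm : ∀ g h, D h → h ≠ 1 → Commute g h → D g
  inv : ∀ u, orderOf u = 2 → D u
  one : ∀ u v : G, orderOf u = 2 → orderOf v = 2 → IsConj u v
  four : ∃ f : G, orderOf f = 4
  six : ∀ l : List G, (∀ g ∈ l, D g) → l.Pairwise (fun a b => ¬ IsConj a b) →
    l.length ≤ 6 ∧ 11 * (l.map fun g => (centralizer ({g} : Set G)).index).sum < Nat.card G
  ab : ∀ (p : ℕ) (y : G), p.Prime → p ≠ 2 → orderOf y = p → D y →
    ∀ P : Sylow p G, IsMulCommutative (P : Subgroup G)

variable {D : G → Prop}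

theorem Dat.dc (S : Dat D) {g u : G} (hu : orderOf u = 2) (c : Commute g u) : D g :=
  S.comm g u (S.inv u hu) (fun e => by rw [e, orderOf_one] at hu; omega) c

theorem Dat.mu1 (S : Dat D) {g : G} (hg : D g) : 12 ≤ Nat.card (centralizer ({g} : Set G)) := by
  have h := (S.six [g] (by simpa) (by simp)).2
  rw [← (centralizer ({g} : Set G)).card_mul_index] at h
  simp only [List.map_cons, List.map_nil, List.sum_cons, List.sum_nil, add_zero] at h
  exact lt_of_mul_lt_mul_right h (Nat.zero_le _)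

theorem Dat.mu2 (S : Dat D) {g h : G} (hg : D g) (hh : D h) (o : orderOf g ≠ orderOf h) {c d : ℕ}
    (hc : Nat.card (centralizer ({g} : Set G)) ≤ c) (hd : Nat.card (centralizer ({h} : Set G)) ≤ d) :
    11 * (c + d) < c * d := by
  have e := (S.six [g, h] (by simp [hg, hh])
    (by simpa [- isConj_iff] using fun e => o (orderOf_isConj e))).2
  simp only [List.map_cons, List.map_nil, List.sum_cons, List.sum_nil, add_zero] at e
  have e1 := Nat.mul_le_mul_right (centralizer ({g} : Set G)).index hc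
  have e2 := Nat.mul_le_mul_right (centralizer ({h} : Set G)).index hd
  rw [card_mul_index] at e1 e2
  have := S.mu1 hg
  have := S.mu1 hh
  refine lt_of_mul_lt_mul_left (a := Nat.card G) ?_ (Nat.zero_le _)
  have e3 := Nat.mul_lt_mul_of_pos_right e (Nat.mul_pos (by omega) (by omega) : 0 < c * d)
  nlinarith [Nat.mul_le_mul_right d e1, Nat.mul_le_mul_right c e2]

/-- a counterexample -/
structure Bad (D : G → Prop) (t f y : G) (p : ℕ) : Prop extends Dat D where
  ht : orderOf t = 2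
  hf : orderOf f = 4
  ff : f * f = t
  pp : p.Prime
  p2 : p ≠ 2
  hy : orderOf y = p
  c : Commute t y

/-- not in one of the five basic classes -/
def NB (t y g : G) : Prop :=
  orderOf g ≠ 1 ∧ orderOf g ≠ 2 ∧ orderOf g ≠ 4 ∧ ¬ IsConj y g ∧ ¬ IsConj (t * y) g

variable {t f y : G} {p : ℕ}

namespace Bad

theorem odd (B : Bad D t f y p) : Odd p := B.pp.odd_of_ne_two B.p2

theorem yp (B : Bad D t f y p) : y ^ p = 1 := by rw [← B.hy, pow_orderOf_eq_one]

theorem dy (B : Bad D t f y p) {g : G} (c : Commute g y) : D g :=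
  B.comm g y (B.dc B.ht B.c.symm) (fun e => B.pp.ne_one (by rw [← B.hy, e, orderOf_one])) c

theorem ord_mul (B : Bad D t f y p) {u z : G} {i k : ℕ} (hu : orderOf u = 2 ^ i)
    (hz : orderOf z = p ^ k) (c : Commute u z) : orderOf (u * z) = 2 ^ i * p ^ k := by
  rw [c.orderOf_mul_eq_mul_orderOf_of_coprime, hu, hz]
  rw [hu, hz]
  exact Nat.Coprime.pow _ _ (Nat.coprime_two_left.2 B.odd)

theorem ord_y (B : Bad D t f y p) {u : G} {i : ℕ} (hu : orderOf u = 2 ^ i) (c : Commute u y) :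
    orderOf (u * y) = 2 ^ i * p := by
  rw [B.ord_mul hu (B.hy.trans (pow_one p).symm) c, pow_one]

theorem ord_ty (B : Bad D t f y p) : orderOf (t * y) = 2 * p := B.ord_y (i := 1) B.ht B.c

theorem nb (B : Bad D t f y p) {g : G} (h1 : orderOf g ≠ 1) (h2 : orderOf g ≠ 2)
    (h4 : orderOf g ≠ 4) (hp : orderOf g ≠ p) (h2p : orderOf g ≠ 2 * p) : NB t y g :=
  ⟨h1, h2, h4, fun e => hp (by rw [← orderOf_isConj e, B.hy]),
    fun e => h2p (by rw [← orderOf_isConj e, B.ord_ty])⟩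

theorem ext (B : Bad D t f y p) {g h : G} (hg : D g) (hh : D h) (ng : NB t y g)
    (nh : NB t y h) : IsConj g h := by
  by_contra hn
  have k : ∀ a b : G, orderOf a ≠ orderOf b → ¬ IsConj a b := fun a b h e => h (orderOf_isConj e)
  have := B.odd
  obtain ⟨r, hr⟩ := B.odd
  have := B.pp.two_le
  have := (B.six [1, t, f, y, t * y, g, h] (by
    simp only [List.forall_mem_cons, List.not_mem_nil, IsEmpty.forall_iff, implies_true, and_true]
    exact ⟨B.dy (Commute.one_left y), B.dy B.c, B.dc B.ht (B.ff ▸ (Commute.refl f).mul_right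
      (Commute.refl f)), B.dy (Commute.refl y), B.dy (B.c.mul_left (Commute.refl y)), hg, hh⟩) (by
    obtain ⟨g1, g2, g3, g4, g5⟩ := ng
    obtain ⟨h1, h2, h3, h4, h5⟩ := nh
    simp only [List.pairwise_cons, List.forall_mem_cons, List.not_mem_nil, IsEmpty.forall_iff,
      implies_true, and_true, List.Pairwise.nil, g4, g5, h4, h5, hn, not_false_iff]
    refine ⟨⟨?_, ?_, ?_, ?_, ?_, ?_⟩, ⟨?_, ?_, ?_, ?_, ?_⟩, ⟨?_, ?_, ?_, ?_⟩, ?_⟩ <;>
      refine k _ _ ?_ <;>
      simp only [orderOf_one, B.ht, B.hf, B.hy, B.ord_ty] <;> omega)).1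
  simp at this

theorem card_aux (B : Bad D t f y p) {w : G} (hw : orderOf w = 2 ∨ orderOf w = p)
    (hD : ∀ g, Commute g w → D g) : ∃ a b, Nat.card (centralizer ({w} : Set G)) = 2 ^ a * p ^ b := by
  refine eq_two_pow_mul Nat.card_pos.ne' fun r hr d => ?_
  by_contra hn
  rw [not_or] at hn
  have : Fact r.Prime := ⟨hr⟩
  obtain ⟨⟨z, c⟩, hz⟩ := exists_prime_orderOf_dvd_card' r d
  rw [orderOf_mk] at hz
  have c := mem_cent.1 c
  have := B.pp.two_le
  have := hr.two_le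
  obtain ⟨k, hk⟩ := hr.odd_of_ne_two hn.1
  obtain ⟨j, hj⟩ := B.odd
  have o : orderOf (z * w) = r * orderOf w := by
    rw [c.orderOf_mul_eq_mul_orderOf_of_coprime, hz]
    rcases hw with h | h <;> rw [hz, h, Nat.coprime_primes hr]
    exacts [hn.1, Nat.prime_two, hn.2, B.pp]
  have := orderOf_isConj (B.ext (hD z c) (hD _ (c.mul_left (Commute.refl w)))
    (by apply B.nb <;> omega) (by
      have : r * p % 2 = 1 := Nat.odd_iff.1 (Odd.mul ⟨k, hk⟩ B.odd)
      have : 2 * p < r * p := Nat.mul_lt_mul_of_pos_right (by omega) (by omega)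
      apply B.nb <;> rcases hw with h | h <;> rw [o, h] <;> omega))
  rw [o, hz] at this
  rcases hw with h | h <;> rw [h] at this <;> nlinarith

theorem no16 (B : Bad D t f y p) (u : G) : orderOf u ≠ 16 := fun h => by
  have h8 : orderOf (u ^ 8) = 2 := by rw [orderOf_pow' _ (by norm_num), h]; rfl
  have h2 : orderOf (u ^ 2) = 8 := by rw [orderOf_pow' _ (by norm_num), h]; rfl
  obtain ⟨j, hj⟩ := B.odd
  have := orderOf_isConj (B.ext (B.dc h8 ((Commute.refl u).pow_right 8))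
    (B.dc h8 ((Commute.refl u).pow_pow 2 8)) (by apply B.nb <;> omega) (by apply B.nb <;> omega))
  omega

theorem conj_y (B : Bad D t f y p) {u z : G} {k : ℕ} (hu : orderOf u = 2) (c : Commute u z)
    (hz : orderOf z = p ^ k) (h1 : z ≠ 1) : IsConj y z := by
  by_contra hn
  have o := B.ord_mul (i := 1) hu hz c
  obtain ⟨j, hj⟩ := B.odd
  obtain ⟨i, hi⟩ : Odd (p ^ k) := B.odd.pow
  have : orderOf z ≠ 1 := fun e => h1 (orderOf_eq_one_iff.1 e)
  have o2 := B.ord_ty
  have := orderOf_isConj (B.ext (B.dc hu c.symm) (B.dc hu ((Commute.refl u).mul_left c.symm))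
    ⟨this, by omega, by omega, hn, fun e => by have := orderOf_isConj e; omega⟩
    ⟨by omega, by omega, by omega,
      fun e => by have := orderOf_isConj e; have := B.hy; omega, fun e => ?_⟩)
  · omega
  · have := orderOf_isConj e
    obtain ⟨g, hg⟩ := isConj_iff.1 e
    exact hn (isConj_iff.2 ⟨g, (parts B.odd (pow_four (Or.inl B.ht)) B.yp (pow_four (Or.inl hu))
      (by rw [show p = orderOf z by omega, pow_orderOf_eq_one]) B.c c hg).2⟩)

theorem conj_H (B : Bad D t f y p) {u v : centralizer ({y} : Set G)} (hu : (u : G) ^ 4 = 1)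
    (hv : (v : G) ^ 4 = 1) (h : IsConj (u * y) (v * y)) : IsConj u v := by
  obtain ⟨g, hg⟩ := isConj_iff.1 h
  obtain ⟨e1, e2⟩ := parts B.odd hu B.yp hv B.yp (mem_cent.1 u.2) (mem_cent.1 v.2) hg
  exact isConj_sub (mem_cent_of_conj e2) e1

theorem ext_H (B : Bad D t f y p) {u v : centralizer ({y} : Set G)} (nu : NB t y (u * y))
    (nv : NB t y (v * y)) : IsConj (u * y) (v * y) :=
  B.ext (B.dy ((mem_cent.1 u.2).mul_left (Commute.refl y)))
    (B.dy ((mem_cent.1 v.2).mul_left (Commute.refl y))) nu nv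

theorem nb_H (B : Bad D t f y p) {u : centralizer ({y} : Set G)} {i : ℕ}
    (hu : orderOf u = 2 ^ (i + 2)) : orderOf (u * y) = 2 ^ (i + 2) * p ∧ NB t y (u * y) := by
  have o := B.ord_y ((orderOf_coe u).trans hu) (mem_cent.1 u.2)
  have := B.pp.two_le
  have : 4 * p ≤ 2 ^ (i + 2) * p :=
    Nat.mul_le_mul_right _ (Nat.pow_le_pow_right two_pos (Nat.le_add_left 2 i))
  exact ⟨o, by apply B.nb <;> omega⟩

theorem inv_H (B : Bad D t f y p) (u v : centralizer ({y} : Set G)) (hu : orderOf u = 2)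
    (hv : orderOf v = 2) : IsConj u v := by
  let t' : centralizer ({y} : Set G) := ⟨t, mem_cent.2 B.c⟩
  obtain ⟨j, hj⟩ := B.odd
  have := B.pp.two_le
  have key : ∀ u : centralizer ({y} : Set G), orderOf u = 2 → ¬ IsConj t' u →
      orderOf (u * y) = 2 * p ∧ NB t y (u * y) := fun u hu hn => by
    have o := B.ord_y (i := 1) ((orderOf_coe u).trans hu) (mem_cent.1 u.2)
    exact ⟨o, by omega, by omega, by omega,
      fun e => by have := orderOf_isConj e; have := B.hy; omega, fun e => hn (B.conj_H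
        (pow_four (Or.inl B.ht)) (pow_four (Or.inl ((orderOf_coe u).trans hu))) e)⟩
  suffices ∀ u : centralizer ({y} : Set G), orderOf u = 2 → IsConj t' u from
    (this u hu).symm.trans (this v hv)
  intro u hu
  by_cases h4 : ∀ u : centralizer ({y} : Set G), orderOf u ≠ 4
  · exact one_class h4 ((orderOf_mk _ _).trans B.ht) (fun u v hu hv nu nv => B.conj_H
      (pow_four (Or.inl ((orderOf_coe u).trans hu))) (pow_four (Or.inl ((orderOf_coe v).trans hv)))
      (B.ext_H (key u hu nu).2 (key v hv nv).2)) hu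
  · push Not at h4
    obtain ⟨w, hw⟩ := h4
    by_contra hn
    obtain ⟨o1, n1⟩ := B.nb_H (i := 0) hw
    obtain ⟨o2, n2⟩ := key u hu hn
    have := orderOf_isConj (B.ext_H n1 n2)
    omega

theorem conj_C (B : Bad D t f y p) (z : centralizer ({t} : Set G)) (k : ℕ) (hz : orderOf z = p ^ k)
    (h1 : z ≠ 1) : IsConj ⟨y, mem_cent.2 B.c.symm⟩ z := by
  have c := (mem_cent.1 z.2).symm
  obtain ⟨g, hg⟩ := isConj_iff.1 (B.conj_y B.ht c ((orderOf_coe z).trans hz)
    fun e => h1 (Subtype.ext e))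
  have m : g⁻¹ * t * g⁻¹⁻¹ ∈ centralizer ({y} : Set G) := mem_cent_of_conj (by
    calc _ = g⁻¹ * (t * (g * y * g⁻¹) * t⁻¹) * g := by group
      _ = y := by rw [hg, c.eq, ← hg]; group)
  obtain ⟨⟨h, hm⟩, hh⟩ := isConj_iff.1 (B.inv_H ⟨t, mem_cent.2 B.c⟩ ⟨_, m⟩ ((orderOf_mk _ _).trans B.ht)
    (by rw [orderOf_mk, ← orderOf_isConj (isConj_iff.2 ⟨g⁻¹, rfl⟩), B.ht]))
  have e : h * t * h⁻¹ = g⁻¹ * t * g⁻¹⁻¹ := congrArg Subtype.val hh
  refine isConj_sub (g := g * h) (mem_cent_of_conj ?_) ?_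
  · calc _ = g * (h * t * h⁻¹) * g⁻¹ := by group
      _ = t := by rw [e]; group
  · calc _ = g * (h * y * h⁻¹) * g⁻¹ := by group
      _ = z := by rw [(mem_cent.1 hm).eq, mul_inv_cancel_right, hg]

theorem card_C (B : Bad D t f y p) :
    ∃ a b, Nat.card (centralizer ({t} : Set G)) = 2 ^ a * p ^ b :=
  B.card_aux (Or.inl B.ht) fun _ c => B.dc B.ht c

theorem card_H (B : Bad D t f y p) :
    ∃ a b, Nat.card (centralizer ({y} : Set G)) = 2 ^ a * p ^ b :=
  B.card_aux (Or.inr B.hy) fun _ c => B.dy c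

theorem p35 (B : Bad D t f y p) : p = 3 ∨ p = 5 := by
  have : Fact p.Prime := ⟨B.pp⟩
  obtain ⟨r, hr⟩ := IsCyclic.exists_generator (α := (ZMod p)ˣ)
  have hr := orderOf_eq_card_of_forall_mem_zpowers hr
  rw [Nat.card_eq_fintype_card, ZMod.card_units] at hr
  let y' : centralizer ({t} : Set G) := ⟨y, mem_cent.2 B.c.symm⟩
  have o : orderOf y' = p := (orderOf_mk _ _).trans B.hy
  have o2 : orderOf (y' ^ (r : ZMod p).val) = p := by
    rw [Nat.Coprime.orderOf_pow, o]
    rw [o]; exact (ZMod.val_coe_unit_coprime r).symm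
  obtain ⟨n, hn⟩ := (isConj_iff (a := y')).1 (B.conj_C (y' ^ (r : ZMod p).val) 1 (by rw [o2, pow_one])
    fun e => B.pp.ne_one (by rw [← o2, e, orderOf_one]))
  have ind : ∀ k, n ^ k * y' * (n ^ k)⁻¹ = y' ^ (r : ZMod p).val ^ k := fun k => by
    induction k with
    | zero => simp
    | succ k ih => rw [pow_succ, pow_succ, pow_mul, ← ih, conj_pow, ← hn]; group
  have e := ind (orderOf n)
  rw [pow_orderOf_eq_one, one_mul, inv_one, mul_one, eq_comm, ← pow_one y', ← pow_mul, one_mul,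
    pow_eq_pow_iff_modEq, o, ← ZMod.natCast_eq_natCast_iff] at e
  have d : p - 1 ∣ orderOf n := by
    rw [← hr]
    refine orderOf_dvd_of_pow_eq_one (Units.ext ?_)
    simpa using e
  obtain ⟨a, b, hc⟩ := B.card_C
  have := B.pp.two_le
  obtain ⟨i, hi⟩ := two_pow_of_dvd B.pp (hc ▸ d.trans (orderOf_dvd_natCard n))
    (Nat.not_dvd_of_pos_of_lt (by omega) (by omega))
  have := order_cases (m := 3) ((orderOf_pow_orderOf_div (orderOf_pos n).ne' d).trans hi)
    fun u e => B.no16 u ((orderOf_coe u).trans e)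
  have pp := B.pp
  have := B.p2
  interval_cases i
  · omega
  · omega
  · omega
  · rw [show p = 9 by omega] at pp
    norm_num at pp

theorem ab' (B : Bad D t f y p) (P : Sylow p G) : IsMulCommutative (P : Subgroup G) :=
  B.ab p y B.pp B.p2 B.hy (B.dy (Commute.refl y)) P

theorem cent_y (B : Bad D t f y p) {u : G} (hu : orderOf u = 2 ∨ orderOf u = 4) (c : Commute u y) :
    centralizer ({u * y} : Set G) = centralizer {u} ⊓ centralizer {y} :=
  cent_mul B.odd (pow_four hu) B.yp c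

theorem lemC' (B : Bad D t f y p) {a b : ℕ}
    (hc : Nat.card (centralizer ({t} : Set G)) = 2 ^ a * p ^ b) :
    b = 1 ∨ (p = 3 ∧ b = 2 ∧ (Nat.card (centralizer ({t * y} : Set G)) = 18 →
      Nat.card (centralizer ({t} : Set G)) = 144)) := by
  refine (lemC B.p35 hc (ab_sub B.ab' _) (y := ⟨y, mem_cent.2 B.c.symm⟩)
    ((orderOf_mk _ _).trans B.hy) B.conj_C).imp_right fun ⟨h1, h2, h3⟩ => ⟨h1, h2, fun h => ?_⟩
  refine h3 ⟨t, mem_cent.2 (Commute.refl t)⟩ (mem_center_iff.2 fun g => Subtype.ext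
    (mem_cent.1 g.2)) ((orderOf_mk _ _).trans B.ht) ?_
  rw [card_cent_sub, inf_comm, ← B.cent_y (Or.inl B.ht) B.c, h]

theorem caseA (B : Bad D t f y p) (w : centralizer ({y} : Set G)) : orderOf w ≠ 4 := fun hw => by
  obtain ⟨a, b, hH⟩ := B.card_H
  obtain ⟨a', b', hC⟩ := B.card_C
  obtain ⟨o1, n1⟩ := B.nb_H (i := 0) hw
  obtain ⟨rfl, rfl, h1, h2⟩ := lemA B.p35 hH (ab_sub B.ab' _) B.inv_H (fun u v hu hv => B.conj_H
    (pow_four (Or.inr ((orderOf_coe u).trans hu))) (pow_four (Or.inr ((orderOf_coe v).trans hv)))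
    (B.ext_H (B.nb_H (i := 0) hu).2 (B.nb_H (i := 0) hv).2)) (fun u hu => by
      obtain ⟨o2, n2⟩ := B.nb_H (i := 1) hu
      have := orderOf_isConj (B.ext_H n1 n2)
      have := B.pp.two_le
      omega) hw
  have l : centralizer ({y} : Set G) ≤ centralizer {t} := fun g hg => by
    obtain ⟨h, hh⟩ := isConj_iff.1 (B.inv_H (w * w) ⟨t, mem_cent.2 B.c⟩
      (by rw [← pow_two, orderOf_pow' _ two_ne_zero, hw]; rfl) ((orderOf_mk _ _).trans B.ht))
    have k : ∀ g, Commute g (w * w) := fun g => mem_cent.1 (by rw [index_eq_one.1 h2]; trivial)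
    rw [(k h).eq, mul_inv_cancel_right] at hh
    have := (k ⟨g, hg⟩).eq
    rw [hh] at this
    exact mem_centralizer_singleton_iff.2 (congrArg Subtype.val this)
  have d := dvd_mix B.odd hH.dvd (hC ▸ card_dvd_of_le l)
  have hb : b' ≤ 2 := by have := B.lemC' hC; omega
  have l2 := Nat.le_of_dvd (by norm_num) (d.trans (Nat.mul_dvd_mul_left _ (pow_dvd_pow 3 hb)))
  have e := (centralizer ({w} : Set (centralizer ({y} : Set G)))).card_mul_index
  have cw := mem_cent.1 w.2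
  rw [h1, card_cent_sub, ← B.cent_y (Or.inr ((orderOf_coe w).trans hw)) cw] at e
  have := B.mu2 (B.dy (cw.mul_left (Commute.refl y))) (B.dy (Commute.refl y))
    (by rw [o1, B.hy]; omega) (c := 12) (by omega) l2
  omega

theorem caseB1 (B : Bad D t f y p) {b : ℕ}
    (hH : Nat.card (centralizer ({y} : Set G)) = 2 ^ 1 * p ^ b) : False := by
  obtain ⟨a', b', hC⟩ := B.card_C
  have hK := B.cent_y (Or.inl B.ht) B.c
  have dK := B.dy (B.c.mul_left (Commute.refl y))
  have d := dvd_mix B.odd (hH ▸ card_dvd_of_le (hK.le.trans inf_le_right))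
    (hC ▸ card_dvd_of_le (hK.le.trans inf_le_left))
  have m := B.mu1 dK
  have l := Nat.le_of_dvd (Nat.mul_pos two_pos (pow_pos B.pp.pos _)) d
  rcases B.lemC' hC with rfl | ⟨rfl, rfl, h⟩
  · have := B.p35
    rw [pow_one] at l; omega
  have e : Nat.card (centralizer ({t * y} : Set G)) = 18 := by
    generalize Nat.card (centralizer ({t * y} : Set G)) = n at *
    interval_cases n <;> omega
  have cf : Commute f t := B.ff ▸ (Commute.refl f).mul_right (Commute.refl f)
  have d2 : Nat.card (centralizer ({f} : Set G)) ∣ 9 * 16 := (card_dvd_of_le fun g hg =>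
    mem_cent.2 (B.ff ▸ (mem_cent.1 hg).mul_right (mem_cent.1 hg))).trans (h e).dvd
  have n3 : ¬ 3 ∣ Nat.card (centralizer ({f} : Set G)) := fun d => by
    have : Fact (Nat.Prime 3) := ⟨Nat.prime_three⟩
    obtain ⟨⟨z, c⟩, hz⟩ := exists_prime_orderOf_dvd_card' 3 d
    rw [orderOf_mk] at hz
    have c := mem_cent.1 c
    obtain ⟨g, rfl⟩ := isConj_iff.1 (B.conj_y (k := 1) B.ht (B.ff ▸ c.symm.mul_left c.symm) hz
      fun e => by rw [e, orderOf_one] at hz; omega)
    refine B.caseA ⟨g⁻¹ * f * g⁻¹⁻¹, mem_cent_of_conj ?_⟩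
      (by rw [orderOf_mk, ← orderOf_isConj (isConj_iff.2 ⟨g⁻¹, rfl⟩), B.hf])
    calc _ = g⁻¹ * (f * (g * y * g⁻¹) * f⁻¹) * g := by group
      _ = y := by rw [← c.eq]; group
  have l2 := Nat.le_of_dvd (by norm_num) (Nat.Coprime.dvd_of_dvd_mul_left
    (((Nat.Prime.coprime_iff_not_dvd Nat.prime_three).2 n3).symm.pow_right 2) d2)
  have := B.mu2 (B.dc B.ht cf) dK (by rw [B.hf, B.ord_ty]; omega) l2 e.le
  omega

theorem caseB2 (B : Bad D t f y 3) {b : ℕ}
    (hH : Nat.card (centralizer ({y} : Set G)) = 2 ^ 2 * 3 ^ b)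
    (hi : (centralizer ({t} : Set G)).relIndex (centralizer {y}) = 3)
    (hq : ∀ z u v : G, Commute z y → Commute u y → Commute v y → Odd (orderOf z) → orderOf u = 2 →
      orderOf v = 2 → Commute z u → Commute z v) : False := by
  have : Fact (Nat.Prime 3) := ⟨Nat.prime_three⟩
  have hK := B.cent_y (Or.inl B.ht) B.c
  have dK := B.dy (B.c.mul_left (Commute.refl y))
  have e := relIndex_mul_card_inf (centralizer ({t} : Set G)) (centralizer {y})
  rw [hi, ← hK] at e
  have m := B.mu2 dK (B.dy (Commute.refl y)) (by rw [B.hy, B.ord_ty]; omega) le_rfl le_rfl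
  have hb : 27 ≤ 3 ^ b := by
    by_contra hn
    have : b < 3 := (Nat.pow_lt_pow_iff_right (by norm_num : 1 < 3)).1 (by omega)
    have := B.mu1 dK
    rw [hH] at e m
    interval_cases b <;> nlinarith
  obtain ⟨P, hP⟩ := exists_sylow_mem (p := 3) (k := 1) B.hy
  have := B.ab' P
  have lP : ∀ z ∈ (P : Subgroup G), (P : Subgroup G) ≤ centralizer {z} := fun z hz x hx =>
    mem_cent.2 (setLike_mul_comm hx hz)
  have cP : Nat.card (P : Subgroup G) = 3 ^ b := by
    rw [← card_sylow_p (by norm_num) hH (P.subtype (lP y hP))]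
    exact Nat.card_congr (subgroupOfEquivOfLe (lP y hP)).toEquiv.symm
  have oP : ∀ z ∈ (P : Subgroup G), ∃ k, orderOf z = 3 ^ k := fun z hz => by
    obtain ⟨k, hk⟩ := IsPGroup.iff_orderOf.1 P.isPGroup' ⟨z, hz⟩
    exact ⟨k, by rwa [orderOf_mk] at hk⟩
  have rel : ∀ g : G, g * y * g⁻¹ ∈ (P : Subgroup G) →
      (centralizer ({g * t * g⁻¹} : Set G)).relIndex P ≤ 3 ∧ Commute (g * t * g⁻¹) (g * y * g⁻¹) ∧
        orderOf (g * t * g⁻¹) = 2 := fun g hg => by
    have c : Commute (g * t * g⁻¹) (g * y * g⁻¹) := B.c.map (MulAut.conj g)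
    have o : orderOf (g * t * g⁻¹) = 2 := by rw [← orderOf_isConj (isConj_iff.2 ⟨g, rfl⟩), B.ht]
    refine ⟨?_, c, o⟩
    have e' := relIndex_mul_card_inf (centralizer ({g * t * g⁻¹} : Set G))
      (centralizer {g * y * g⁻¹})
    rw [← cent_mul B.odd (pow_four (Or.inl o)) (by rw [conj_pow, B.yp]; group) c,
      ← card_cent_isConj' (a := t * y) (isConj_iff.2 ⟨g, by group⟩),
      ← card_cent_isConj' (a := y) (isConj_iff.2 ⟨g, rfl⟩), ← e] at e'
    have e3 := Nat.eq_of_mul_eq_mul_right Nat.card_pos e'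
    exact (relIndex_le_of_le_right (lP _ hg) (by omega)).trans e3.le
  have nb : ∀ z ∈ (P : Subgroup G), z ∉ centralizer ({t} : Set G) → D z ∧ NB t y z :=
    fun z hz hn => by
      obtain ⟨k, hk⟩ := oP z hz
      have oz : Odd (orderOf z) := hk ▸ Odd.pow (by decide)
      obtain ⟨i, hi⟩ := oz
      refine ⟨B.dy (mem_cent.1 (lP y hP hz)), fun e => hn (by
        rw [orderOf_eq_one_iff.1 e]; exact one_mem _), by omega, by omega, fun e => ?_,
        fun e => by have := orderOf_isConj e; have := B.ord_ty; omega⟩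
      obtain ⟨g, rfl⟩ := isConj_iff.1 e
      obtain ⟨r1, c1, o1⟩ := rel g hz
      obtain ⟨r2, -⟩ := rel 1 (by simpa using hP)
      rw [one_mul, inv_one, mul_one] at r2
      have r3 := relIndex_inf_le.trans (Nat.mul_le_mul r1 r2)
      have e3 := relIndex_mul_card_inf (centralizer ({g * t * g⁻¹} : Set G) ⊓ centralizer {t}) P
      obtain ⟨x, hx, x1⟩ := (bot_or_exists_ne_one (centralizer ({g * t * g⁻¹} : Set G) ⊓
        centralizer {t} ⊓ P)).resolve_left fun e => by rw [e, card_bot] at e3; omega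
      obtain ⟨k, hk⟩ := oP x hx.2
      obtain ⟨h, rfl⟩ := isConj_iff.1 (B.conj_y B.ht (mem_cent.1 hx.1.2).symm hk x1)
      have tr : ∀ w, Commute w (h * y * h⁻¹) → Commute (MulAut.conj h⁻¹ w) y := fun w c => by
        simpa [mul_assoc] using c.map (MulAut.conj h⁻¹)
      exact hn (mem_cent.2 (Commute.of_map (MulAut.conj h⁻¹).injective (hq _ _ _
        (tr _ (mem_cent.1 (lP _ hx.2 hz))) (tr _ (mem_cent.1 hx.1.1).symm)
        (tr _ (mem_cent.1 hx.1.2).symm) (by rw [MulEquiv.orderOf_eq]; exact ⟨i, hi⟩)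
        (by rw [MulEquiv.orderOf_eq, o1]) (by rw [MulEquiv.orderOf_eq, B.ht]) (c1.symm.map _))))
  obtain ⟨z, hz, zn⟩ : ∃ z ∈ (P : Subgroup G), z ∉ centralizer ({t} : Set G) := by
    by_contra hn
    push Not at hn
    have d := Nat.mul_dvd_mul_left 3 (card_dvd_of_le ((le_inf hn (lP y hP)).trans hK.ge))
    rw [e, hH, cP, Nat.mul_dvd_mul_iff_right (by omega)] at d
    omega
  refine (orb P hz).1 ?_
  have e2 : {b | b ∈ (P : Subgroup G) ∧ IsConj z b} =
      ((P : Subgroup G) : Set G) \ (centralizer ({t} : Set G) ⊓ P :) := by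
    ext x
    refine ⟨fun h => ⟨h.1, fun m => ?_⟩, fun h => ⟨h.1, B.ext (nb z hz zn).1 ?_ (nb z hz zn).2 ?_⟩⟩
    · obtain ⟨k, hk⟩ := oP x h.1
      refine (nb z hz zn).2.2.2.2.1 ((B.conj_y B.ht (mem_cent.1 m.1).symm hk fun e => ?_).trans
        h.2.symm)
      exact (nb z hz zn).2.1 (by rw [orderOf_isConj h.2, e, orderOf_one])
    exacts [(nb x h.1 fun m => h.2 ⟨m, h.1⟩).1, (nb x h.1 fun m => h.2 ⟨m, h.1⟩).2]
  rw [e2, Set.ncard_sdiff (SetLike.coe_subset_coe.2 inf_le_right), ncard_coe, ncard_coe]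
  exact Nat.dvd_sub (B.hy.symm.dvd.trans (Subgroup.orderOf_dvd_natCard _ hP)) (B.hy.symm.dvd.trans
    (Subgroup.orderOf_dvd_natCard _ (mem_inf.2 ⟨mem_cent.2 B.c.symm, hP⟩)))

theorem false (B : Bad D t f y p) : False := by
  obtain ⟨a, b, hH⟩ := B.card_H
  rcases lemB B.p35 hH (ab_sub B.ab' _) B.caseA B.inv_H (t := ⟨t, mem_cent.2 B.c⟩)
    ((orderOf_mk _ _).trans B.ht) with rfl | ⟨rfl, rfl, h1, h2⟩
  · exact B.caseB1 hH
  refine B.caseB2 hH ?_ fun z u v cz cu cv oz ou ov c => ?_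
  · rw [← h1, relIndex]
    congr 1
    ext x
    simp only [mem_subgroupOf, mem_centralizer_singleton_iff, Subtype.ext_iff, coe_mul]
  · exact congrArg Subtype.val (h2 ⟨z, mem_cent.2 cz⟩ ⟨u, mem_cent.2 cu⟩ ⟨v, mem_cent.2 cv⟩
      (by rwa [orderOf_mk]) (by rwa [orderOf_mk]) (by rwa [orderOf_mk]) (Subtype.ext c)).eq

end Bad

theorem Dat.cit (S : Dat D) : CIT.IsCIT G := by
  intro t ht
  by_contra hn
  have : Fact (Nat.Prime 2) := ⟨Nat.prime_two⟩
  rw [IsPGroup.iff_card] at hn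
  obtain ⟨p, pp, d, p2⟩ : ∃ p : ℕ, p.Prime ∧ p ∣ Nat.card (centralizer ({t} : Set G)) ∧ p ≠ 2 := by
    by_contra h
    push Not at h
    exact hn ⟨_, Nat.eq_prime_pow_of_unique_prime_dvd Nat.card_pos.ne' fun hp d => h _ hp d⟩
  have : Fact p.Prime := ⟨pp⟩
  obtain ⟨⟨y, c⟩, hy⟩ := exists_prime_orderOf_dvd_card' p d
  obtain ⟨f, hf⟩ := S.four
  obtain ⟨g, hg⟩ := isConj_iff.1 (S.one (f * f) t
    (by rw [← pow_two, orderOf_pow' _ two_ne_zero, hf]; rfl) ht)
  exact Bad.false (f := g * f * g⁻¹) ⟨S, ht, by rw [← orderOf_isConj (isConj_iff.2 ⟨g, rfl⟩), hf],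
    by rw [← hg]; group, pp, p2, by rwa [orderOf_mk] at hy, (mem_cent.1 c).symm⟩

end Cfsg.Agent.SCS
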