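import Mathlib
import Cfsg.Agent.SCS.Two
import Cfsg.Agent.Grp.Fitting
import Cfsg.Agent.Char.Burnside
import Cfsg.Agent.S0058

/-! `{2, p}`-groups with abelian Sylow `p`-subgroups and few classes of `2`-elements. -/

set_option autoImplicit false
set_option linter.unusedSectionVars false

namespace Cfsg.Agent.SCS

open Cfsg Cfsg.Agent.Char Cfsg.Agent.Grp Subgroup

variable {X : Type*} [Group X]

theorem ncard_orbit (N : Subgroup X) (a : X) :
    {b | ∃ n ∈ N, n * a * n⁻¹ = b}.ncard = (centralizer ({a} : Set X)).relIndex N := by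
  let _ : MulAction N X := MulAction.compHom X (MulAut.conj.comp N.subtype)
  have e1 : MulAction.orbit N a = {b | ∃ n ∈ N, n * a * n⁻¹ = b} := by
    ext b
    exact ⟨fun ⟨n, hn⟩ => ⟨n, n.2, hn⟩, fun ⟨n, hn, e⟩ => ⟨⟨n, hn⟩, e⟩⟩
  have e2 : MulAction.stabilizer N a = (centralizer ({a} : Set X)).subgroupOf N := by
    ext n
    rw [mem_subgroupOf, mem_centralizer_singleton_iff]
    exact mul_inv_eq_iff_eq_mul
  rw [← e1, ← MulAction.index_stabilizer, e2]
  rfl

theorem ncard_class (a : X) : {b | IsConj a b}.ncard = (centralizer ({a} : Set X)).index := by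
  rw [← relIndex_top_right, ← ncard_orbit]
  simp [isConj_iff]

theorem relIndex_mul_card_inf (H K : Subgroup X) :
    H.relIndex K * Nat.card (H ⊓ K : Subgroup X) = Nat.card K := by
  rw [← inf_relIndex_right, ← ((H ⊓ K).subgroupOf K).index_mul_card,
    Nat.card_congr (subgroupOfEquivOfLe (inf_le_right : H ⊓ K ≤ K)).toEquiv]
  rfl

theorem card_cent_sub (H : Subgroup X) (u : H) :
    Nat.card (centralizer ({u} : Set H)) = Nat.card (centralizer ({(u : X)} : Set X) ⊓ H :) := by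
  rw [← Nat.card_congr (subgroupOfEquivOfLe (inf_le_right :
    centralizer ({(u : X)} : Set X) ⊓ H ≤ H)).toEquiv, inf_subgroupOf_right]
  congr 2
  ext x
  simp only [mem_subgroupOf, mem_centralizer_singleton_iff, Subtype.ext_iff, coe_mul]

theorem ncard_coe (H : Subgroup X) : (H : Set X).ncard = Nat.card H := rfl

variable [Finite X]

/-- fusion in an abelian Sylow subgroup -/
theorem orb {p : ℕ} [Fact p.Prime] (P : Sylow p X) [IsMulCommutative (P : Subgroup X)] {a : X}
    (ha : a ∈ (P : Subgroup X)) : ¬ p ∣ {b | b ∈ (P : Subgroup X) ∧ IsConj a b}.ncard ∧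
      {b | b ∈ (P : Subgroup X) ∧ IsConj a b}.ncard ∣ Nat.card X := by
  have e : {b | b ∈ (P : Subgroup X) ∧ IsConj a b} =
      {b | ∃ n ∈ normalizer ((P : Subgroup X) : Set X), n * a * n⁻¹ = b} := by
    ext b
    constructor
    · rintro ⟨hb, c⟩
      obtain ⟨g, rfl⟩ := isConj_iff.1 c
      obtain ⟨n, hn, e⟩ := P.conj_eq_normalizer_conj_of_mem a g⁻¹ ha (by rwa [inv_inv])
      exact ⟨n⁻¹, inv_mem hn, by rw [inv_inv] at e ⊢; exact e.symm⟩
    · rintro ⟨n, hn, rfl⟩
      exact ⟨(hn a).1 ha, isConj_iff.2 ⟨n, rfl⟩⟩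
  rw [e, ncard_orbit]
  refine ⟨fun h => P.not_dvd_index ((h.trans (relIndex_dvd_of_le_left _ ?_)).trans
    (relIndex_dvd_index_of_le le_normalizer)),
    (relIndex_dvd_card _ _).trans (card_subgroup_dvd_card _)⟩
  intro x hx
  exact mem_centralizer_singleton_iff.2 (setLike_mul_comm hx ha)

theorem sylow_normal [Group.IsSolvable X] {p : ℕ} [Fact p.Prime] (P : Sylow p X)
    [IsMulCommutative (P : Subgroup X)]
    (h : (P : Subgroup X) ≤ centralizer (pPrimeCore p X : Set X)) : (P : Subgroup X).Normal := by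
  have h1 : (P : Subgroup X) ≤ centralizer (fittingSubgroup X : Set X) := by
    rw [le_centralizer_iff]
    refine (fitting_le_pCore_sup_pPrimeCore p).trans (sup_le ?_ (le_centralizer_iff.1 h))
    exact (pCore_le_sylow P).trans (P : Subgroup X).le_centralizer
  rw [le_antisymm (le_pCore_of_le_fitting P.isPGroup' (h1.trans (centralizer_fitting_le X)))
    (pCore_le_sylow P)]
  infer_instance

omit [Finite X] in
theorem pow_of_dvd {p a b m : ℕ} (hp : p.Prime) (h : m ∣ 2 ^ a * p ^ b) (ho : ¬ 2 ∣ m) :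
    ∃ i, m = p ^ i := by
  have := Nat.Coprime.dvd_of_dvd_mul_left
    (Nat.Coprime.pow_right a ((Nat.Prime.coprime_iff_not_dvd Nat.prime_two).2 ho).symm) h
  obtain ⟨i, -, e⟩ := (Nat.dvd_prime_pow hp).1 this
  exact ⟨i, e⟩

omit [Finite X] in
theorem two_pow_of_dvd {p a b m : ℕ} (hp : p.Prime) (h : m ∣ 2 ^ a * p ^ b) (ho : ¬ p ∣ m) :
    ∃ i, m = 2 ^ i := by
  have := Nat.Coprime.dvd_of_dvd_mul_right
    (Nat.Coprime.pow_right b ((Nat.Prime.coprime_iff_not_dvd hp).2 ho).symm) h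
  obtain ⟨i, -, e⟩ := (Nat.dvd_prime_pow Nat.prime_two).1 this
  exact ⟨i, e⟩

omit [Finite X] in
theorem arith_two {p r i : ℕ} (hp : p = 3 ∨ p = 5) (h : 2 ^ r = p ^ i + 1) :
    (r = 1 ∧ i = 0) ∨ (r = 2 ∧ p = 3 ∧ i = 1) := by
  have h0 : 0 < p ^ i := by rcases hp with rfl | rfl <;> positivity
  have h8 : p ^ i % 8 = 1 ∨ p ^ i % 8 = p := by
    have : p ^ 2 % 8 = 1 := by rcases hp with rfl | rfl <;> rfl
    rw [← Nat.div_add_mod i 2, pow_add, pow_mul, Nat.mul_mod, Nat.pow_mod, this]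
    rcases Nat.mod_two_eq_zero_or_one i with e | e <;> rcases hp with rfl | rfl <;> simp [e]
  rcases r with _ | _ | _ | r
  · omega
  · left
    refine ⟨rfl, by_contra fun hi => ?_⟩
    have := Nat.le_self_pow hi p
    omega
  · right
    have e : p ^ i = 3 := by omega
    have := (Nat.pow_eq_self_iff (a := 3) (b := i) (by norm_num))
    rcases hp with rfl | rfl
    · exact ⟨rfl, rfl, this.1 e⟩
    · omega
  · rw [pow_succ, pow_succ, pow_succ] at h
    omega

omit [Finite X] in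
theorem arith_p {p b i : ℕ} (hp : p = 3 ∨ p = 5) (h : p ^ b = 2 ^ i + 1) :
    b = 1 ∨ (p = 3 ∧ b = 2) := by
  rcases hp with rfl | rfl
  · rcases le_or_gt i 3 with hi | hi
    · have : b < 3 := (Nat.pow_lt_pow_iff_right (by norm_num : 1 < 3)).1 (by interval_cases i <;> omega)
      interval_cases b <;> interval_cases i <;> simp_all
    · obtain ⟨j, rfl⟩ := Nat.exists_eq_add_of_lt hi
      have e1 : 3 ^ b % 80 = 3 ^ (b % 4) % 80 := by
        conv_lhs => rw [← Nat.div_add_mod b 4, pow_add, pow_mul, Nat.mul_mod, Nat.pow_mod]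
        simp
      have e2 : ¬ 5 ∣ 2 ^ j := fun h => by
        have := (by norm_num : Nat.Prime 5).dvd_of_dvd_pow h
        omega
      rw [show 3 + j + 1 = j + 4 by ring, pow_add] at h
      have : b % 4 < 4 := Nat.mod_lt _ (by norm_num)
      generalize b % 4 = c at *
      interval_cases c <;> omega
  · rcases le_or_gt i 2 with hi | hi
    · have : b < 2 := (Nat.pow_lt_pow_iff_right (by norm_num : 1 < 5)).1 (by interval_cases i <;> omega)
      interval_cases b <;> interval_cases i <;> simp_all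
    · obtain ⟨j, rfl⟩ := Nat.exists_eq_add_of_lt hi
      have e1 : 5 ^ b % 24 = 5 ^ (b % 2) % 24 := by
        conv_lhs => rw [← Nat.div_add_mod b 2, pow_add, pow_mul, Nat.mul_mod, Nat.pow_mod]
        simp
      have e2 : ¬ 3 ∣ 2 ^ j := fun h => by
        have := Nat.prime_three.dvd_of_dvd_pow h
        omega
      rw [show 2 + j + 1 = j + 3 by ring, pow_add] at h
      rcases Nat.mod_two_eq_zero_or_one b with e | e <;> rw [e] at e1 <;> omega

theorem order_cases {g : X} {k : ℕ} (hg : orderOf g = 2 ^ k) {m : ℕ}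
    (h : ∀ u : X, orderOf u ≠ 2 ^ (m + 1)) : k ≤ m := by
  by_contra hn
  exact h _ (orderOf_pow_orderOf_div (orderOf_pos g).ne' (hg ▸ pow_dvd_pow 2 (by omega)))

theorem card_sylow_two {p a b : ℕ} (hp : p.Prime) (h2 : p ≠ 2) (hc : Nat.card X = 2 ^ a * p ^ b)
    (U : Sylow 2 X) : Nat.card (U : Subgroup X) = 2 ^ a := by
  have : Fact (Nat.Prime 2) := ⟨Nat.prime_two⟩
  rw [U.card_eq_multiplicity, hc, Nat.factorization_mul (by positivity) (pow_ne_zero _ hp.ne_zero)]
  simp [hp.factorization, Nat.prime_two.factorization, h2]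

theorem card_sylow_p {p a b : ℕ} [hp : Fact p.Prime] (h2 : p ≠ 2)
    (hc : Nat.card X = 2 ^ a * p ^ b) (U : Sylow p X) : Nat.card (U : Subgroup X) = p ^ b := by
  rw [U.card_eq_multiplicity, hc,
    Nat.factorization_mul (by positivity) (pow_ne_zero _ hp.out.ne_zero)]
  simp [hp.out.factorization, Nat.prime_two.factorization, h2]

theorem two_core {p a b : ℕ} (hp : p.Prime) (hc : Nat.card X = 2 ^ a * p ^ b) :
    IsPGroup 2 (pPrimeCore p X) := by
  have : Fact p.Prime := ⟨hp⟩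
  obtain ⟨i, hi⟩ := two_pow_of_dvd hp (hc ▸ card_subgroup_dvd_card (pPrimeCore p X))
    (not_dvd_card_pPrimeCore p X)
  exact IsPGroup.of_card hi

theorem exists_two_of_ne_bot {R : Subgroup X} (hR : IsPGroup 2 R) (h : R ≠ ⊥) :
    ∃ u ∈ R, orderOf u = 2 := by
  have : Fact (Nat.Prime 2) := ⟨Nat.prime_two⟩
  obtain ⟨u, hu⟩ := exists_prime_orderOf_dvd_card' (G := R) 2
    (hR.card_eq_or_dvd.resolve_left fun e => h (card_eq_one.1 e))
  exact ⟨u, u.2, by rw [orderOf_coe, hu]⟩

omit [Finite X] in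
theorem mem_of_isConj {R : Subgroup X} [hR : R.Normal] {a b : X} (ha : a ∈ R) (h : IsConj a b) :
    b ∈ R := by
  obtain ⟨g, rfl⟩ := isConj_iff.1 h
  exact hR.conj_mem a ha g

theorem comm_sylow (h4 : ∀ u : X, orderOf u ≠ 4) (U : Sylow 2 X) :
    (∀ u ∈ (U : Subgroup X), u ≠ 1 → orderOf u = 2) ∧ IsMulCommutative (U : Subgroup X) := by
  have : Fact (Nat.Prime 2) := ⟨Nat.prime_two⟩
  have k : ∀ u ∈ (U : Subgroup X), u ≠ 1 → orderOf u = 2 := fun u hu h1 => by
    obtain ⟨k, hk⟩ := IsPGroup.iff_orderOf.1 U.isPGroup' ⟨u, hu⟩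
    rw [orderOf_mk] at hk
    have := order_cases hk (m := 1) h4
    interval_cases k
    · exact absurd (orderOf_eq_one_iff.1 hk) h1
    · exact hk
  have k2 : ∀ u ∈ (U : Subgroup X), u * u = 1 := fun u hu => by
    by_cases h1 : u = 1
    · simp [h1]
    · exact mul_self_of_two (k u hu h1)
  refine ⟨k, ⟨⟨fun a b => Subtype.ext ?_⟩⟩⟩
  have e := k2 _ (mul_mem a.2 b.2)
  calc (a : X) * b = ((a : X) * b)⁻¹ := (inv_eq_of_mul_eq_one_right e).symm
    _ = b * a := by
      rw [mul_inv_rev, inv_eq_of_mul_eq_one_right (k2 _ a.2), inv_eq_of_mul_eq_one_right (k2 _ b.2)]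

theorem exists_conj_mem {p : ℕ} [Fact p.Prime] (U : Sylow p X) {g : X} {k : ℕ}
    (hg : orderOf g = p ^ k) : ∃ g' ∈ (U : Subgroup X), IsConj g g' := by
  obtain ⟨Q, hQ⟩ := (IsPGroup.of_card (G := zpowers g) (by rw [Nat.card_zpowers, hg])).exists_le_sylow
  obtain ⟨x, rfl⟩ := MulAction.exists_smul_eq X U Q
  have := hQ (mem_zpowers g)
  rw [Sylow.coe_subgroup_smul, mem_pointwise_smul_iff_inv_smul_mem] at this
  exact ⟨_, this, isConj_iff.2 ⟨x⁻¹, by simp [mul_assoc]⟩⟩

theorem exists_sylow_mem {p : ℕ} [Fact p.Prime] {g : X} {k : ℕ}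
    (hg : orderOf g = p ^ k) : ∃ U : Sylow p X, g ∈ (U : Subgroup X) := by
  obtain ⟨Q, hQ⟩ := (IsPGroup.of_card (G := zpowers g) (by rw [Nat.card_zpowers, hg])).exists_le_sylow
  exact ⟨Q, hQ (mem_zpowers g)⟩

/-- an elementary abelian Sylow `2`-subgroup does not have exactly two classes of involutions -/
theorem one_class (h4 : ∀ u : X, orderOf u ≠ 4) {t : X} (ht : orderOf t = 2)
    (h : ∀ u v : X, orderOf u = 2 → orderOf v = 2 → ¬ IsConj t u → ¬ IsConj t v → IsConj u v)
    {u : X} (hu : orderOf u = 2) : IsConj t u := by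
  have : Fact (Nat.Prime 2) := ⟨Nat.prime_two⟩
  by_contra hn
  obtain ⟨U, hU⟩ := exists_sylow_mem (p := 2) (k := 1) ht
  obtain ⟨k, hc⟩ := comm_sylow h4 U
  obtain ⟨v, hv, c⟩ := exists_conj_mem U (k := 1) hu
  have hv2 : orderOf v = 2 := orderOf_isConj c ▸ hu
  have nv : ¬ IsConj t v := fun e => hn (e.trans c.symm)
  have e : ((U : Subgroup X) : Set X) = insert 1 ({b | b ∈ (U : Subgroup X) ∧ IsConj t b} ∪
      {b | b ∈ (U : Subgroup X) ∧ IsConj v b}) := by
    ext b
    simp only [SetLike.mem_coe, Set.mem_insert_iff, Set.mem_union, Set.mem_ofPred_eq]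
    refine ⟨fun hb => ?_, ?_⟩
    · by_cases h1 : b = 1
      · exact Or.inl h1
      · by_cases h2 : IsConj t b
        · exact Or.inr (Or.inl ⟨hb, h2⟩)
        · exact Or.inr (Or.inr ⟨hb, h v b hv2 (k b hb h1) nv h2⟩)
    · rintro (rfl | h | h)
      exacts [one_mem _, h.1, h.1]
  have e2 := congrArg Set.ncard e
  rw [Set.ncard_insert_of_notMem, Set.ncard_union_eq, ncard_coe] at e2
  · have a1 := (orb U hU).1
    have a2 := (orb U hv).1
    have a3 := Subgroup.orderOf_dvd_natCard _ hU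
    rw [ht] at a3
    omega
  · exact Set.disjoint_left.2 fun b h1 h2 => nv (h1.2.trans h2.2.symm)
  · rintro (h1 | h1)
    · rw [isConj_one_left.1 h1.2, orderOf_one] at ht; omega
    · rw [isConj_one_left.1 h1.2, orderOf_one] at hv2; omega

theorem ncard_ne_one (U : Subgroup X) {T : Set X} (h : ∀ b, b ∈ T ↔ b ∈ U ∧ b ≠ 1) :
    T.ncard + 1 = Nat.card U := by
  rw [← Set.ncard_insert_of_notMem (a := 1) (fun e => ((h 1).1 e).2 rfl), ← ncard_coe]
  congr 1
  ext b
  by_cases h1 : b = 1 <;> simp [h, h1]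

variable {p a b : ℕ}

/-- elementary abelian Sylow `2`-subgroups -/
theorem lemB (hp : p = 3 ∨ p = 5) (hc : Nat.card X = 2 ^ a * p ^ b)
    (hab : ∀ P : Sylow p X, IsMulCommutative (P : Subgroup X)) (h4 : ∀ u : X, orderOf u ≠ 4)
    (h2 : ∀ u v : X, orderOf u = 2 → orderOf v = 2 → IsConj u v) {t : X} (ht : orderOf t = 2) :
    a = 1 ∨ (p = 3 ∧ a = 2 ∧ (centralizer ({t} : Set X)).index = 3 ∧
      ∀ z u v : X, Odd (orderOf z) → orderOf u = 2 → orderOf v = 2 → Commute z u → Commute z v) := by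
  have : Fact (Nat.Prime 2) := ⟨Nat.prime_two⟩
  have pp : p.Prime := by rcases hp with rfl | rfl <;> norm_num
  have : Fact p.Prime := ⟨pp⟩
  have p2 : p ≠ 2 := by omega
  obtain ⟨U, hU⟩ := exists_sylow_mem (p := 2) (k := 1) ht
  obtain ⟨k, hcU⟩ := comm_sylow h4 U
  have cU := card_sylow_two pp p2 hc U
  obtain ⟨o1, o2⟩ := orb U hU
  have e := ncard_ne_one (U : Subgroup X) (T := {b | b ∈ (U : Subgroup X) ∧ IsConj t b}) fun b =>
    ⟨fun h => ⟨h.1, fun e => by
      have := orderOf_isConj h.2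
      rw [e, orderOf_one] at this; omega⟩,
      fun h => ⟨h.1, h2 t b ht (k b h.1 h.2)⟩⟩
  obtain ⟨i, hi⟩ := pow_of_dvd pp (hc ▸ o2) o1
  rw [hi, cU] at e
  rcases arith_two hp e.symm with ⟨h, -⟩ | ⟨rfl, rfl, -⟩
  · exact Or.inl h
  refine Or.inr ⟨rfl, rfl, ?_⟩
  have hR := two_core pp hc
  have := isSolvable_of_card_dvd_pow_mul_pow Nat.prime_two pp X hc.dvd
  have cU4 : Nat.card (U : Subgroup X) = 4 := cU
  have hN : (U : Subgroup X).Normal := by
    by_cases h0 : pPrimeCore 3 X = ⊥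
    · exfalso
      obtain ⟨P⟩ : Nonempty (Sylow 3 X) := inferInstance
      have := hab P
      have hP := sylow_normal P (by
        rw [h0]; intro x _ y hy; rw [mem_bot.1 hy, one_mul, mul_one])
      have c4 : Nat.card (X ⧸ (P : Subgroup X)) = 2 ^ 2 := by
        have := (P : Subgroup X).card_mul_index
        rw [card_sylow_p p2 hc, hc, mul_comm] at this
        exact Nat.eq_of_mul_eq_mul_right (by positivity) this
      have cm := IsPGroup.isMulCommutative_of_card_eq_prime_sq c4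
      obtain ⟨v, hv, hvt⟩ := Set.exists_ne_of_one_lt_ncard
        (s := {b | b ∈ (U : Subgroup X) ∧ IsConj t b}) (by rw [hi]; omega) t
      obtain ⟨g, rfl⟩ := isConj_iff.1 hv.2
      have m1 : g * t * g⁻¹ * t⁻¹ ∈ (P : Subgroup X) := by
        rw [← QuotientGroup.eq_one_iff]
        simp only [QuotientGroup.mk_mul, QuotientGroup.mk_inv]
        rw [cm.1.1 (g : X ⧸ (P : Subgroup X))]; group
      have m2 := (IsPGroup.disjoint_of_ne 2 3 (by norm_num) _ _ U.isPGroup' P.isPGroup').le_bot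
        (mem_inf.2 ⟨mul_mem hv.1 (inv_mem hU), m1⟩)
      exact hvt (mul_inv_eq_one.1 (mem_bot.1 m2))
    · obtain ⟨u, hu, u2⟩ := exists_two_of_ne_bot hR h0
      have : (U : Subgroup X) = pPrimeCore 3 X := by
        refine le_antisymm (fun x hx => ?_) (hR.le_sylow_of_normal U)
        by_cases h1 : x = 1
        · rw [h1]; exact one_mem _
        · exact mem_of_isConj hu (h2 u x u2 (k x hx h1))
      rw [this]; infer_instance
  have mU : ∀ v, orderOf v = 2 → v ∈ (U : Subgroup X) := fun v hv => mem_of_isConj hU (h2 t v ht hv)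
  constructor
  · rw [← ncard_class]
    have : {b | IsConj t b} = {b | b ∈ (U : Subgroup X) ∧ IsConj t b} := by
      ext b; exact ⟨fun h => ⟨mem_of_isConj hU h, h⟩, fun h => h.2⟩
    rw [this, hi]; omega
  · intro z u v hz hu hv hzu
    have l1 : (U : Subgroup X) ≤ centralizer ({v} : Set X) := fun x hx =>
      mem_centralizer_singleton_iff.2 (setLike_mul_comm hx (mU v hv))
    by_cases huv : v = u
    · rwa [huv]
    -- the orbit of `v` under `z` has odd length at most two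
    have o1 := ncard_orbit (zpowers z) v
    have o2 : {b | ∃ n ∈ zpowers z, n * v * n⁻¹ = b} ⊆ ((U : Subgroup X) : Set X) \ {1, u} := by
      rintro _ ⟨n, hn, rfl⟩
      refine ⟨hN.conj_mem v (mU v hv) n, ?_⟩
      rintro (e | e)
      · have := orderOf_isConj (isConj_iff.2 ⟨n, e⟩)
        rw [orderOf_one] at this; omega
      · obtain ⟨j, rfl⟩ := hn
        have := (hzu.zpow_left j).eq
        refine huv (mul_left_cancel (a := z ^ j) ?_)
        rw [this]; exact mul_inv_eq_iff_eq_mul.1 e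
    have o3 := Set.ncard_le_ncard o2
    rw [Set.ncard_sdiff (by
      rintro x (rfl | rfl)
      exacts [one_mem _, mU _ hu]), ncard_coe, cU4, Set.ncard_pair (fun e => by
        rw [← e, orderOf_one] at hu; omega), o1] at o3
    have o4 := relIndex_dvd_card (centralizer ({v} : Set X)) (zpowers z)
    rw [Nat.card_zpowers] at o4
    have o5 := Odd.of_dvd_nat hz o4
    have o6 : (centralizer ({v} : Set X)).relIndex (zpowers z) = 1 := by
      obtain ⟨r, hr⟩ := o5; omega
    exact mem_centralizer_singleton_iff.1 (relIndex_eq_one.1 o6 (mem_zpowers z))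

/-- one class of elements of order `p` -/
theorem lemC (hp : p = 3 ∨ p = 5) (hc : Nat.card X = 2 ^ a * p ^ b)
    (hab : ∀ P : Sylow p X, IsMulCommutative (P : Subgroup X)) {y : X} (hy : orderOf y = p)
    (h : ∀ z k, orderOf z = p ^ k → z ≠ 1 → IsConj y z) :
    b = 1 ∨ (p = 3 ∧ b = 2 ∧ ∀ t ∈ center X, orderOf t = 2 →
      Nat.card (centralizer ({y} : Set X)) = 18 → Nat.card X = 144) := by
  have : Fact (Nat.Prime 2) := ⟨Nat.prime_two⟩
  have pp : p.Prime := by rcases hp with rfl | rfl <;> norm_num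
  have : Fact p.Prime := ⟨pp⟩
  have p2 : p ≠ 2 := by omega
  obtain ⟨P, hP⟩ := exists_sylow_mem (p := p) (k := 1) (by rw [hy, pow_one])
  have := hab P
  have cP := card_sylow_p p2 hc P
  obtain ⟨o1, o2⟩ := orb P hP
  have k : ∀ z ∈ (P : Subgroup X), z ≠ 1 → IsConj y z := fun z hz h1 => by
    obtain ⟨k, hk⟩ := IsPGroup.iff_orderOf.1 P.isPGroup' ⟨z, hz⟩
    exact h z k (by rwa [orderOf_mk] at hk) h1
  have e := ncard_ne_one (P : Subgroup X) (T := {b | b ∈ (P : Subgroup X) ∧ IsConj y b}) fun b =>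
    ⟨fun h => ⟨h.1, fun e => by
      have := orderOf_isConj h.2
      rw [e, orderOf_one] at this; omega⟩,
      fun h => ⟨h.1, k b h.1 h.2⟩⟩
  obtain ⟨i, hi⟩ := two_pow_of_dvd pp (hc ▸ o2) o1
  rw [cP] at e
  rcases arith_p hp (hi ▸ e.symm) with h | ⟨rfl, rfl⟩
  · exact Or.inl h
  refine Or.inr ⟨rfl, rfl, fun t tz ht h18 => ?_⟩
  have hR := two_core pp hc
  have := isSolvable_of_card_dvd_pow_mul_pow Nat.prime_two pp X hc.dvd
  have := Fintype.ofFinite X
  have nc : ¬ IsCyclic (P : Subgroup X) := fun hcy => by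
    obtain ⟨g, hg⟩ := isCyclic_iff_exists_orderOf_eq_natCard.1 hcy
    rw [cP, ← orderOf_coe] at hg
    have := orderOf_isConj (h g 2 hg fun e => by rw [e, orderOf_one] at hg; omega)
    omega
  have gen := S0058.result (P : Subgroup X) (pPrimeCore 3 X) nc
    (by rw [normalizer_eq_top]; exact le_top)
    (by rw [cP]; exact (pPrimeCore_coprime 3 X).symm.pow_left 2)
  have hle : pPrimeCore 3 X ≤ zpowers t := by
    rw [← gen]
    refine iSup₂_le fun z hz => ?_
    have c18 : Nat.card (centralizer ({z} : Set X)) = 18 := by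
      have e1 := (centralizer ({z} : Set X)).card_mul_index
      have e2 := (centralizer ({y} : Set X)).card_mul_index
      have e3 : {b | IsConj y b} = {b | IsConj z b} := by
        ext b; exact ⟨(k z hz.1 hz.2).symm.trans, (k z hz.1 hz.2).trans⟩
      rw [← ncard_class] at e1 e2
      rw [e3, h18, ← e1] at e2
      exact (Nat.eq_of_mul_eq_mul_right ((Set.ncard_pos).2 ⟨z, IsConj.refl z⟩) e2).symm
    have : (zpowers t).Normal := ⟨fun x hx g => by
      rw [mem_center_iff.1 (zpowers_le.2 tz hx) g, mul_inv_cancel_right]; exact hx⟩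
    have p1 : IsPGroup 2 ((pPrimeCore 3 X ⊓ centralizer {z}) ⊔ zpowers t :) :=
      (hR.to_le inf_le_left).to_sup_of_normal_right
        (IsPGroup.of_card (n := 1) (by rw [Nat.card_zpowers, ht, pow_one]))
    obtain ⟨j, hj⟩ := p1.exists_card_eq
    have d1 := card_dvd_of_le (sup_le inf_le_right (zpowers_le.2 (center_le_centralizer _ tz)) :
      (pPrimeCore 3 X ⊓ centralizer {z}) ⊔ zpowers t ≤ centralizer {z})
    rw [c18, hj] at d1
    have d2 : 2 ^ j ≤ 2 := Nat.le_of_dvd two_pos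
      (Nat.Coprime.dvd_of_dvd_mul_right (Nat.Coprime.pow_left j (by norm_num : Nat.Coprime 2 9)) d1)
    exact le_sup_left.trans (eq_of_le_of_card_ge le_sup_right
      (by rw [hj, Nat.card_zpowers, ht]; exact d2)).ge
  have hN := sylow_normal P (le_centralizer_iff.1
    (hle.trans ((zpowers_le.2 tz).trans (center_le_centralizer _))))
  have e3 : {b | IsConj y b} = {b | b ∈ (P : Subgroup X) ∧ IsConj y b} := by
    ext b; exact ⟨fun h => ⟨mem_of_isConj hP h, h⟩, fun h => h.2⟩
  rw [← (centralizer ({y} : Set X)).card_mul_index, h18, ← ncard_class, e3]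
  omega

theorem class_mul_le {g : X} {c : ℕ} (h : c ≤ Nat.card (centralizer ({g} : Set X))) :
    c * {b | IsConj g b}.ncard ≤ Nat.card X := by
  rw [ncard_class, ← (centralizer ({g} : Set X)).card_mul_index]
  exact Nat.mul_le_mul_right _ h

theorem le_card_cent {g x : X} (h : Commute x g) :
    orderOf x ≤ Nat.card (centralizer ({g} : Set X)) :=
  Nat.le_of_dvd Nat.card_pos (Subgroup.orderOf_dvd_natCard _ (mem_centralizer_singleton_iff.2 h))

theorem two_elt_cases (h2 : ∀ u v : X, orderOf u = 2 → orderOf v = 2 → IsConj u v)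
    (h4 : ∀ u v : X, orderOf u = 4 → orderOf v = 4 → IsConj u v) (h8 : ∀ u : X, orderOf u ≠ 8)
    {f : X} (hf : orderOf f = 4) {g : X} {k : ℕ} (hg : orderOf g = 2 ^ k) :
    g = 1 ∨ IsConj (f * f) g ∨ IsConj f g := by
  have := order_cases hg (m := 2) h8
  interval_cases k
  · exact Or.inl (orderOf_eq_one_iff.1 hg)
  · refine Or.inr (Or.inl (h2 _ _ ?_ hg))
    rw [← pow_two, orderOf_pow' _ two_ne_zero, hf]; rfl
  · exact Or.inr (Or.inr (h4 _ _ hf hg))

theorem mem_core (hp : p = 3 ∨ p = 5) (hc : Nat.card X = 2 ^ a * p ^ b)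
    (hab : ∀ P : Sylow p X, IsMulCommutative (P : Subgroup X))
    (h2 : ∀ u v : X, orderOf u = 2 → orderOf v = 2 → IsConj u v)
    (h4 : ∀ u v : X, orderOf u = 4 → orderOf v = 4 → IsConj u v) (h8 : ∀ u : X, orderOf u ≠ 8)
    {f : X} (hf : orderOf f = 4) : f ∈ pPrimeCore p X := by
  have : Fact (Nat.Prime 2) := ⟨Nat.prime_two⟩
  have pp : p.Prime := by rcases hp with rfl | rfl <;> norm_num
  have : Fact p.Prime := ⟨pp⟩
  have p2 : p ≠ 2 := by omega
  have hR := two_core pp hc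
  have := isSolvable_of_card_dvd_pow_mul_pow Nat.prime_two pp X hc.dvd
  set R := pPrimeCore p X with hRdef
  by_contra hfR
  obtain ⟨P⟩ : Nonempty (Sylow p X) := inferInstance
  let Q := P.mapSurjective (QuotientGroup.mk'_surjective R)
  have := hab P
  have : IsMulCommutative (Q : Subgroup (X ⧸ R)) := by
    rw [Sylow.coe_mapSurjective]; infer_instance
  have hQ := sylow_normal Q (by
    rw [pPrimeCore_quotient_pPrimeCore]; intro x _ y hy; rw [mem_bot.1 hy, one_mul, mul_one])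
  let φ : X →* (X ⧸ R) ⧸ (Q : Subgroup (X ⧸ R)) :=
    (QuotientGroup.mk' _).comp (QuotientGroup.mk' R)
  have hφ : Function.Surjective φ :=
    (QuotientGroup.mk'_surjective _).comp (QuotientGroup.mk'_surjective R)
  obtain ⟨j, hj⟩ := Q.isPGroup'.exists_card_eq
  have cX : Nat.card X = Nat.card R * (p ^ j * Nat.card ((X ⧸ R) ⧸ (Q : Subgroup (X ⧸ R)))) := by
    rw [← hj, ← R.card_mul_index, index, ← (Q : Subgroup (X ⧸ R)).card_mul_index]; rfl
  obtain ⟨i, hi⟩ := two_pow_of_dvd (m := Nat.card ((X ⧸ R) ⧸ (Q : Subgroup (X ⧸ R)))) pp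
    (hc ▸ cX ▸ (dvd_mul_left _ _).mul_left _) Q.not_dvd_index
  have hker : ∀ (g : X) (k : ℕ), g ^ 2 ^ k = 1 → φ g = 1 → g ∈ R := fun g k hg h1 => by
    have m1 : (g : X ⧸ R) ∈ (Q : Subgroup (X ⧸ R)) := (QuotientGroup.eq_one_iff _).1 h1
    have d1 := Subgroup.orderOf_dvd_natCard _ m1
    have d2 : orderOf (g : X ⧸ R) ∣ 2 ^ k :=
      orderOf_dvd_of_pow_eq_one (by rw [← QuotientGroup.mk_pow, hg]; rfl)
    rw [hj] at d1
    rw [← QuotientGroup.eq_one_iff, ← orderOf_eq_one_iff]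
    exact Nat.eq_one_of_dvd_coprimes
      (Nat.Coprime.pow _ _ ((Nat.coprime_primes pp Nat.prime_two).2 p2)) d1 d2
  have f4 : f ^ 2 ^ 2 = 1 := by rw [show 2 ^ 2 = 4 from rfl, ← hf, pow_orderOf_eq_one]
  have hY : ∀ q, q = 1 ∨ IsConj (φ (f * f)) q ∨ IsConj (φ f) q := fun q => by
    obtain ⟨U⟩ : Nonempty (Sylow 2 X) := inferInstance
    have : q ∈ ((U.mapSurjective hφ : Sylow 2 _) : Subgroup _) := by
      rw [← (U.mapSurjective hφ).is_maximal' ((IsPGroup.of_card hi).to_subgroup ⊤) le_top]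
      exact mem_top q
    obtain ⟨g, hg, rfl⟩ := this
    obtain ⟨k, hk⟩ := IsPGroup.iff_orderOf.1 U.isPGroup' ⟨g, hg⟩
    rcases two_elt_cases h2 h4 h8 hf (by rwa [orderOf_mk] at hk) with e | e | e
    · exact Or.inl (by rw [e, map_one])
    · exact Or.inr (Or.inl (φ.map_isConj e))
    · exact Or.inr (Or.inr (φ.map_isConj e))
  have n1 : φ f ≠ 1 := fun e => hfR (hker f 2 f4 e)
  by_cases n2 : φ (f * f) = 1
  · have ffR : f * f ∈ R := hker _ 1 (by rw [← f4, ← pow_two, ← pow_mul]; rfl) n2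
    have o2 : orderOf (φ f) = 2 := orderOf_eq_two (by rw [← map_mul, n2]) n1
    have l1 := class_mul_le (o2 ▸ le_card_cent (Commute.refl (φ f)))
    have l2 := (Set.ncard_le_ncard (s := Set.univ) (t := insert 1 {b | IsConj (φ f) b}) (by
      intro q _
      rcases hY q with e | e | e
      · exact Or.inl e
      · rw [n2] at e; exact Or.inl (isConj_one_right.1 e)
      · exact Or.inr e)).trans (Set.ncard_insert_le _ _)
    rw [Set.ncard_univ] at l2
    have e : {b | IsConj f b} =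
        QuotientGroup.mk ⁻¹' {q : X ⧸ R | q ≠ 1 ∧ q ^ 4 = 1} := by
      ext g
      simp only [Set.mem_ofPred_eq, Set.mem_preimage, ne_eq, QuotientGroup.eq_one_iff,
        ← QuotientGroup.mk_pow]
      refine ⟨fun h => ⟨fun m => hfR (mem_of_isConj m h.symm), ?_⟩, fun h => ?_⟩
      · rw [← hf, orderOf_isConj h, pow_orderOf_eq_one]; exact one_mem _
      · obtain ⟨k, hk⟩ := hR ⟨_, h.2⟩
        have e : g ^ 2 ^ (2 + k) = 1 := by
          rw [pow_add, pow_mul]; exact congrArg Subtype.val hk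
        obtain ⟨m, -, hm⟩ := (Nat.dvd_prime_pow Nat.prime_two).1 (orderOf_dvd_of_pow_eq_one e)
        rcases two_elt_cases h2 h4 h8 hf hm with e | e | e
        · exact absurd (e ▸ one_mem R) h.1
        · exact absurd (mem_of_isConj ffR e) h.1
        · exact e
    have d1 : Nat.card R ∣ (centralizer ({f} : Set X)).index := by
      rw [← ncard_class, e]
      exact ⟨_, QuotientGroup.card_preimage_mk _ _⟩
    have d2 := Subgroup.orderOf_dvd_natCard _ (mem_centralizer_singleton_iff.2 (Commute.refl f))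
    have d3 := Nat.mul_dvd_mul d2 d1
    rw [card_mul_index, cX, mul_comm (Nat.card R), Nat.mul_dvd_mul_iff_right Nat.card_pos, hf] at d3
    have d4 := Nat.le_of_dvd Nat.card_pos (Nat.Coprime.dvd_of_dvd_mul_left
      (Nat.Coprime.pow 2 j ((Nat.coprime_primes Nat.prime_two pp).2 p2.symm)) d3)
    omega
  · have o4 : orderOf (φ f) = 2 ^ 2 := orderOf_eq_prime_pow
      (by rw [pow_one, pow_two, ← map_mul]; exact n2) (by rw [← map_pow, f4, map_one])
    have l1 := class_mul_le (o4 ▸ le_card_cent (Commute.refl (φ f)))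
    have l3 := class_mul_le (g := φ (f * f)) (o4 ▸ le_card_cent (((Commute.refl f).mul_right
      (Commute.refl f)).map φ))
    have l2 := ((Set.ncard_le_ncard (s := Set.univ)
      (t := insert 1 ({b | IsConj (φ (f * f)) b} ∪ {b | IsConj (φ f) b})) fun q _ => hY q).trans
      (Set.ncard_insert_le _ _)).trans (Nat.add_le_add_right (Set.ncard_union_le _ _) _)
    rw [Set.ncard_univ] at l2
    have l4 := Nat.le_of_dvd Nat.card_pos (orderOf_dvd_natCard (φ f))
    omega

/-- one class of involutions and one class of elements of order four -/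
theorem lemA (hp : p = 3 ∨ p = 5) (hc : Nat.card X = 2 ^ a * p ^ b)
    (hab : ∀ P : Sylow p X, IsMulCommutative (P : Subgroup X))
    (h2 : ∀ u v : X, orderOf u = 2 → orderOf v = 2 → IsConj u v)
    (h4 : ∀ u v : X, orderOf u = 4 → orderOf v = 4 → IsConj u v) (h8 : ∀ u : X, orderOf u ≠ 8)
    {f : X} (hf : orderOf f = 4) : p = 3 ∧ a = 3 ∧ (centralizer ({f} : Set X)).index = 6 ∧
      (centralizer ({f * f} : Set X)).index = 1 := by
  have : Fact (Nat.Prime 2) := ⟨Nat.prime_two⟩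
  have pp : p.Prime := by rcases hp with rfl | rfl <;> norm_num
  have p2 : p ≠ 2 := by omega
  have hR := two_core pp hc
  have hfR := mem_core hp hc hab h2 h4 h8 hf
  set R := pPrimeCore p X with hRdef
  have ff : orderOf (f * f) = 2 := by rw [← pow_two, orderOf_pow' _ two_ne_zero, hf]; rfl
  have mR : ∀ g k, orderOf g = 2 ^ k → g ∈ R := fun g k hg => by
    rcases two_elt_cases h2 h4 h8 hf hg with e | e | e
    · rw [e]; exact one_mem _
    · exact mem_of_isConj (mul_mem hfR hfR) e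
    · exact mem_of_isConj hfR e
  obtain ⟨U⟩ : Nonempty (Sylow 2 X) := inferInstance
  have cR : Nat.card R = 2 ^ a := by
    rw [← card_sylow_two pp p2 hc U]
    congr 2
    refine le_antisymm (hR.le_sylow_of_normal U) fun g hg => ?_
    obtain ⟨k, hk⟩ := IsPGroup.iff_orderOf.1 U.isPGroup' ⟨g, hg⟩
    exact mR g k (by rwa [orderOf_mk] at hk)
  have : Nontrivial R := ⟨⟨⟨f, hfR⟩, 1, fun e => by
    rw [show f = 1 from congrArg Subtype.val e, orderOf_one] at hf; omega⟩⟩
  obtain ⟨z, hz, z2⟩ := exists_two_of_ne_bot (hR.to_subgroup (center R)) hR.bot_lt_center.ne'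
  have cen : ∀ u, u * u = 1 → ∀ r ∈ R, Commute r u := fun u hu r hr => by
    by_cases h1 : u = 1
    · rw [h1]; exact Commute.one_right r
    obtain ⟨g, rfl⟩ := isConj_iff.1 (h2 z u (by rw [orderOf_coe, z2]) (orderOf_eq_two hu h1))
    have m : g⁻¹ * r * g⁻¹⁻¹ ∈ R := Normal.conj_mem inferInstance r hr g⁻¹
    have e : g⁻¹ * r * g⁻¹⁻¹ * z = z * (g⁻¹ * r * g⁻¹⁻¹) :=
      congrArg Subtype.val (mem_center_iff.1 hz ⟨_, m⟩)
    calc r * (g * z * g⁻¹) = g * (g⁻¹ * r * g⁻¹⁻¹ * z) * g⁻¹ := by group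
      _ = g * z * g⁻¹ * r := by rw [e]; group
  have mR' : ∀ u, u * u = 1 → u ∈ R := fun u hu => by
    by_cases h1 : u = 1
    · rw [h1]; exact one_mem _
    · exact mR u 1 (orderOf_eq_two hu h1)
  let W : Subgroup X :=
    { carrier := {u | u * u = 1}
      one_mem' := one_mul 1
      mul_mem' := fun {u v} hu hv => by
        rw [Set.mem_ofPred_eq, (cen v hv u (mR' u hu)).symm.mul_mul_mul_comm, hu, hv, one_mul]
      inv_mem' := fun {u} hu => by rw [Set.mem_ofPred_eq, ← mul_inv_rev, hu, inv_one] }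
  have WR : W ≤ R := mR'
  obtain ⟨j, hj⟩ := (hR.to_le WR).exists_card_eq
  have e1 := ncard_ne_one W (T := {b | IsConj (f * f) b}) fun g =>
    ⟨fun h => ⟨mul_self_of_two (orderOf_isConj h ▸ ff), fun e => by
      have := orderOf_isConj h
      rw [e, orderOf_one] at this; omega⟩, fun h => h2 _ _ ff (orderOf_eq_two h.1 h.2)⟩
  have nW : ∀ g, IsConj f g → g ∉ W := fun g h m => by
    have := Nat.le_of_dvd two_pos (orderOf_dvd_of_pow_eq_one ((pow_two g).trans m))
    rw [← orderOf_isConj h] at this; omega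
  have e2 : {b | IsConj f b}.ncard + Nat.card W = Nat.card R := by
    rw [← ncard_coe, ← ncard_coe, ← Set.ncard_sdiff_add_ncard_of_subset (t := (R : Set X)) WR]
    congr 2
    ext g
    refine ⟨fun h => ⟨mem_of_isConj hfR h, nW g h⟩, fun h => ?_⟩
    obtain ⟨k, hk⟩ := IsPGroup.iff_orderOf.1 hR ⟨g, h.1⟩
    rcases two_elt_cases h2 h4 h8 hf (by rwa [orderOf_mk] at hk) with e | e | e
    · exact absurd (e ▸ one_mem W) h.2
    · exact absurd (mul_self_of_two (orderOf_isConj e ▸ ff)) h.2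
    · exact e
  rw [ncard_class] at e1 e2
  obtain ⟨w, hw⟩ := (hR.to_le (inf_le_left : R ⊓ centralizer {f} ≤ R)).exists_card_eq
  have jw : j < w := by
    rw [← Nat.pow_lt_pow_iff_right one_lt_two, ← hj, ← hw, ← ncard_coe, ← ncard_coe]
    refine Set.ncard_lt_ncard (lt_of_le_of_ne (a := W) (le_inf WR fun u hu =>
      mem_centralizer_singleton_iff.2 (cen u hu f hfR).symm) fun e => nW f (IsConj.refl f) ?_)
    rw [e]; exact ⟨hfR, mem_centralizer_singleton_iff.2 rfl⟩
  obtain ⟨d, rfl⟩ := Nat.exists_eq_add_of_le ((Nat.pow_dvd_pow_iff_le_right one_lt_two).1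
    (hj ▸ cR ▸ card_dvd_of_le WR))
  obtain ⟨m, hm⟩ : ∃ m, 2 ^ d = m + 1 := ⟨2 ^ d - 1, by have := Nat.one_le_two_pow (n := d); omega⟩
  have e3 : (centralizer ({f} : Set X)).index = 2 ^ j * m := by
    rw [hj, cR, pow_add, hm] at e2; linarith
  have d1 := Nat.mul_dvd_mul (hw ▸ card_dvd_of_le
    (inf_le_right : R ⊓ centralizer {f} ≤ centralizer {f})) (Dvd.intro _ e3.symm)
  rw [card_mul_index, hc, ← pow_add] at d1
  have d2 := (Nat.pow_dvd_pow_iff_le_right one_lt_two).1 (Nat.Coprime.dvd_of_dvd_mul_right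
    (Nat.Coprime.pow _ _ ((Nat.coprime_primes Nat.prime_two pp).2 p2.symm)) d1)
  have j0 : j ≠ 0 := fun e => by
    have := (centralizer ({f * f} : Set X)).index_ne_zero_of_finite
    rw [hj, e] at e1; omega
  have := dvd_pow_self 2 j0
  have := dvd_pow_self 2 (show d ≠ 0 by omega)
  obtain ⟨i, hi⟩ := pow_of_dvd pp (hc ▸ (centralizer ({f * f} : Set X)).index_dvd_card) (by omega)
  obtain ⟨k, hk⟩ := pow_of_dvd (m := m) pp (hc ▸ (Dvd.intro_left _ e3.symm).trans
    (centralizer ({f} : Set X)).index_dvd_card) (by omega)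
  have a1 := arith_two hp (hi ▸ hj ▸ e1.symm)
  have a2 := arith_two hp (hk ▸ hm)
  obtain ⟨rfl, rfl⟩ := a1.resolve_right (by omega)
  obtain ⟨rfl, rfl, rfl⟩ := a2.resolve_left (by omega)
  exact ⟨rfl, rfl, by rw [e3, hk]; rfl, hi⟩

end Cfsg.Agent.SCS
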